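/-
Fixed spaces of an endomorphism permuting an independent family of subspaces, and simultaneous
eigenspaces of a commuting semisimple family.
-/
import Mathlib

set_option autoImplicit false

namespace CfsgLib.FGS.FixedHalf

open Module

variable {L W : Type*} [Field L] [AddCommGroup W] [Module L W]

/-- If `T` permutes the summands of a direct decomposition along `π` of order dividing `p`, then
`p * dim ker (T - 1)` is at most `∑ dim U i` with the summands fixed by `π` counted `p` times. -/
theorem perm_bound {ι : Type*} [Fintype ι] [DecidableEq ι] [FiniteDimensional L W] (U : ι → Submodule L W)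
    (hind : iSupIndep U) (htop : ⨆ i, U i = ⊤) {p : ℕ} (hp : p.Prime) (π : Equiv.Perm ι) (hπ : π ^ p = 1)
    (T : Module.End L W) (hT : ∀ i, ∀ x ∈ U i, T x ∈ U (π i)) (hTp : T ^ p = 1) :
    p * finrank L ↥(LinearMap.ker (T - 1)) ≤
      ∑ i, (if π i = i then p * finrank L (U i) else finrank L (U i)) := by
  classical
  have hTinj : Function.Injective T := by
    intro x y h
    have e : (T ^ (p - 1)) (T x) = (T ^ (p - 1)) (T y) := by rw [h]
    rwa [← Module.End.mul_apply, ← Module.End.mul_apply, ← pow_succ, Nat.sub_add_cancel hp.one_le, hTp] at e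
  have hint : DirectSum.IsInternal U :=
    (DirectSum.isInternal_submodule_iff_iSupIndep_and_iSup_eq_top U).2 ⟨hind, htop⟩
  let e := (LinearEquiv.ofBijective (DirectSum.coeLinearMap U) hint).symm
  -- the components
  let comp : (i : ι) → W →ₗ[L] U i := fun i => (DirectSum.component L ι (fun i => U i) i).comp e.toLinearMap
  have hsum : ∀ x, ∑ i, (comp i x : W) = x := fun x => by
    have h1 := e.symm_apply_apply x
    rw [show e.symm (e x) = DirectSum.coeLinearMap U (e x) from rfl, DirectSum.coeLinearMap_eq_dfinsuppSum,
      DFinsupp.sum_eq_sum_fintype] at h1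
    exact h1
    intro i
    simp
  have hcomp : ∀ (i : ι) (y : U i) (j : ι), (comp j (y : W) : W) = if j = i then (y : W) else 0 := by
    intro i y j
    have : e (y : W) = DirectSum.lof L ι (fun i => U i) i y := by
      apply e.symm.injective
      rw [e.symm_apply_apply]
      exact (DirectSum.coeLinearMap_of U i y).symm
    change ((DirectSum.component L ι (fun i => U i) j) (e (y : W)) : W) = _
    rw [this]
    by_cases h : j = i
    · subst h; simp [DirectSum.component.lof_self]
    · rw [if_neg h, DirectSum.component.of, dif_neg (Ne.symm h)]; rfl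
  have hTcomp : ∀ x, ∀ i, (comp (π i) (T x) : W) = T (comp i x) := by
    intro x i
    conv_lhs => rw [← hsum x]
    rw [map_sum, map_sum, Submodule.coe_sum, Finset.sum_eq_single i]
    · rw [hcomp (π i) ⟨_, hT i _ (comp i x).2⟩, if_pos rfl]
    · intro j _ hj
      rw [hcomp (π j) ⟨_, hT j _ (comp j x).2⟩, if_neg fun h => hj (π.injective h).symm]
    · simp
  have horb : ∀ x, T x = x → ∀ (m : ℕ) i, (comp ((π ^ m) i) x : W) = (T ^ m) (comp i x) := by
    intro x hx m
    induction m with
    | zero => intro i; rw [pow_zero, pow_zero, Equiv.Perm.one_apply, Module.End.one_apply]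
    | succ m ih =>
      intro i
      rw [pow_succ', Equiv.Perm.mul_apply, pow_succ', Module.End.mul_apply, ← ih i, ← hTcomp, hx]
  have hdim : ∀ (m : ℕ) i, finrank L (U ((π ^ m) i)) = finrank L (U i) := by
    have hmap : ∀ i, finrank L (U i) ≤ finrank L (U (π i)) := fun i =>
      LinearMap.finrank_le_finrank_of_injective (f := T.restrict (hT i))
        fun a b h => Subtype.ext (hTinj (congrArg Subtype.val h))
    have hm : ∀ (m : ℕ) i, finrank L (U i) ≤ finrank L (U ((π ^ m) i)) := by
      intro m
      induction m with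
      | zero => exact fun i => le_rfl
      | succ m ih => exact fun i => (ih i).trans (by rw [pow_succ', Equiv.Perm.mul_apply]; exact hmap _)
    intro m i
    refine le_antisymm ((hm (p * m - m) _).trans (le_of_eq ?_)) (hm m i)
    rw [← Equiv.Perm.mul_apply, ← pow_add, Nat.sub_add_cancel (Nat.le_mul_of_pos_left m hp.pos), pow_mul, hπ,
      one_pow]
    rfl
  -- representatives
  let eι := Fintype.equivFin ι
  let S : Finset ι := Finset.univ.filter fun i => ∀ m : ℕ, eι i ≤ eι ((π ^ m) i)
  have hrep : ∀ i, ∃ s ∈ S, ∃ m : ℕ, (π ^ m) s = i := by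
    intro i
    obtain ⟨j, hj, hmin⟩ := Finset.exists_min_image ((Finset.range p).image fun m => (π ^ m) i) eι
      ⟨i, Finset.mem_image.2 ⟨0, Finset.mem_range.2 hp.pos, rfl⟩⟩
    obtain ⟨m₀, hm₀, rfl⟩ := Finset.mem_image.1 hj
    refine ⟨(π ^ m₀) i, Finset.mem_filter.2 ⟨Finset.mem_univ _, fun m => hmin _ ?_⟩, p - m₀, ?_⟩
    · refine Finset.mem_image.2 ⟨(m + m₀) % p, Finset.mem_range.2 (Nat.mod_lt _ hp.pos), ?_⟩
      rw [← Equiv.Perm.mul_apply, ← pow_add, ← pow_eq_pow_mod (m + m₀) hπ]
    · rw [← Equiv.Perm.mul_apply, ← pow_add,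
        Nat.sub_add_cancel (Finset.mem_range.1 hm₀).le, hπ, Equiv.Perm.one_apply]
  let Φ : ↥(LinearMap.ker (T - 1)) →ₗ[L] (∀ s : S, U (s : ι)) :=
    LinearMap.pi fun s => (comp s).comp (LinearMap.ker (T - 1)).subtype
  have hΦ : Function.Injective Φ := by
    rw [injective_iff_map_eq_zero]
    rintro ⟨x, hx⟩ h
    apply Subtype.ext
    change x = 0
    have hx' : T x = x := sub_eq_zero.1 hx
    rw [← hsum x]
    refine Finset.sum_eq_zero fun i _ => ?_
    obtain ⟨s, hs, m, rfl⟩ := hrep i
    have : comp s x = 0 := congrFun h ⟨s, hs⟩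
    rw [horb x hx', this, Submodule.coe_zero, map_zero]
  have hle : finrank L ↥(LinearMap.ker (T - 1)) ≤ ∑ s ∈ S, finrank L (U s) := by
    refine (LinearMap.finrank_le_finrank_of_injective hΦ).trans (le_of_eq ?_)
    rw [Module.finrank_pi_fintype, ← Finset.sum_coe_sort S fun i => finrank L (U i)]
  refine (Nat.mul_le_mul_left p hle).trans ?_
  rw [Finset.mul_sum, ← Finset.sum_filter_add_sum_filter_not S (fun i => π i = i),
    ← Finset.sum_filter_add_sum_filter_not Finset.univ (fun i => π i = i)
      (fun i => if π i = i then p * finrank L (U i) else finrank L (U i))]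
  refine add_le_add ?_ ?_
  · refine le_trans (le_of_eq (Finset.sum_congr rfl fun i hi => ?_))
      (Finset.sum_le_sum_of_subset (Finset.filter_subset_filter _ (Finset.subset_univ S)))
    rw [if_pos (Finset.mem_filter.1 hi).2]
  · calc ∑ i ∈ S.filter (fun i => ¬ π i = i), p * finrank L (U i)
        = ∑ q ∈ (S.filter fun i => ¬ π i = i) ×ˢ Finset.range p, finrank L (U ((π ^ q.2) q.1)) := by
          rw [Finset.sum_product]
          refine Finset.sum_congr rfl fun i _ => ?_
          simp [hdim]
      _ = ∑ i ∈ ((S.filter fun i => ¬ π i = i) ×ˢ Finset.range p).image (fun q => (π ^ q.2) q.1),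
            finrank L (U i) := by
          refine (Finset.sum_image (f := fun i => finrank L (U i)) ?_).symm
          rintro ⟨a, m⟩ ha ⟨b, n⟩ hb h
          simp only [Finset.coe_product, Set.mem_prod, Finset.mem_coe, Finset.mem_filter, Finset.mem_range] at ha hb
          obtain ⟨⟨haS, haf⟩, hm⟩ := ha
          obtain ⟨⟨hbS, -⟩, hn⟩ := hb
          have hshift : ∀ (a b : ι) (m n : ℕ), m < p → (π ^ m) a = (π ^ n) b → (π ^ (p - m + n)) b = a := by
            intro a b m n hm h
            rw [pow_add, Equiv.Perm.mul_apply, ← h, ← Equiv.Perm.mul_apply, ← pow_add,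
              Nat.sub_add_cancel hm.le, hπ, Equiv.Perm.one_apply]
          dsimp only at h
          have e1 := hshift a b m n hm h
          have e2 := hshift b a n m hn h.symm
          have hab : a = b := eι.injective (le_antisymm
            (e2 ▸ (Finset.mem_filter.1 haS).2 (p - n + m)) (e1 ▸ (Finset.mem_filter.1 hbS).2 (p - m + n)))
          subst hab
          refine Prod.ext rfl ?_
          by_contra hne
          change ¬ m = n at hne
          apply haf
          -- `π` fixes `a` as it has prime order
          have hk : Nat.Coprime (p - m + n) p := by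
            rw [Nat.coprime_comm, hp.coprime_iff_not_dvd]
            intro hd
            obtain ⟨c, hc⟩ := hd
            rcases c with _ | _ | c
            · omega
            · omega
            · rw [Nat.mul_succ, Nat.mul_succ] at hc; omega
          obtain ⟨c, -, hc⟩ := Nat.exists_mul_mod_eq_one_of_coprime hk hp.one_lt
          have hit : ∀ j : ℕ, ((π ^ (p - m + n)) ^ j) a = a := by
            intro j
            induction j with
            | zero => simp
            | succ j ih => rw [pow_succ, Equiv.Perm.mul_apply, e1, ih]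
          have := hit c
          rwa [← pow_mul, pow_eq_pow_mod _ hπ, hc, pow_one] at this
      _ ≤ ∑ i ∈ Finset.univ.filter (fun i => ¬ π i = i), finrank L (U i) := by
          refine Finset.sum_le_sum_of_subset ?_
          intro i hi
          obtain ⟨⟨a, m⟩, hq, rfl⟩ := Finset.mem_image.1 hi
          refine Finset.mem_filter.2 ⟨Finset.mem_univ _, fun h => ?_⟩
          have ha : ¬ π a = a := (Finset.mem_filter.1 (Finset.mem_product.1 hq).1).2
          apply ha
          dsimp only at h
          rw [← Equiv.Perm.mul_apply, ← pow_succ', pow_succ, Equiv.Perm.mul_apply] at h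
          exact (π ^ m).injective h
      _ = _ := Finset.sum_congr rfl fun i hi => by rw [if_neg (Finset.mem_filter.1 hi).2]

/-- A commuting family of endomorphisms killed by `X ^ N - 1`, `N ≠ 0` in `L`, is simultaneously
diagonalisable. -/
theorem iSup_eigen_eq_top [IsAlgClosed L] [FiniteDimensional L W] {κ : Type*} (f : κ → Module.End L W)
    (hc : ∀ i j, Commute (f i) (f j)) {N : ℕ} (hN : (N : L) ≠ 0) (hf : ∀ i, f i ^ N = 1) :
    ⨆ χ : κ → L, ⨅ i, (f i).eigenspace (χ i) = ⊤ := by
  have hss : ∀ i, (f i).IsSemisimple := fun i =>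
    Module.End.isSemisimple_of_squarefree_aeval_eq_zero
      ((Polynomial.X_pow_sub_one_separable_iff.2 hN).squarefree) (by simp [hf i])
  have h := Module.End.iSup_iInf_maxGenEigenspace_eq_top_of_forall_mapsTo f
    (fun i j φ => Module.End.mapsTo_maxGenEigenspace_of_comm (hc j i) φ)
    (fun i => Module.End.iSup_maxGenEigenspace_eq_top (f i))
  refine le_antisymm le_top (h ▸ iSup_mono fun χ => iInf_mono fun i => ?_)
  rw [(hss i).isFinitelySemisimple.maxGenEigenspace_eq_eigenspace]

theorem iSupIndep_eigen {κ : Type*} (f : κ → Module.End L W) (hc : ∀ i j, Commute (f i) (f j)) :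
    iSupIndep fun χ : κ → L => ⨅ i, (f i).eigenspace (χ i) :=
  (Module.End.independent_iInf_maxGenEigenspace_of_forall_mapsTo
    (f := f) (fun i j φ => Module.End.mapsTo_maxGenEigenspace_of_comm (hc j i) φ)).mono
    fun χ => iInf_mono fun _ => Module.End.eigenspace_le_maxGenEigenspace

end CfsgLib.FGS.FixedHalf
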