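/-
Fixed points in transitive actions of solvable groups generated by conjugates of an element of prime
order at least five.
-/
import Cfsg.Agent.Lib.Solvable.MinimalNormal

set_option autoImplicit false

namespace CfsgLib.FGS.FixedHalf

open scoped commutatorElement

open MulAction

variable {G : Type*} [Group G] [Finite G]

theorem five_le_of_dvd {p r T F : ℕ} (hp : p.Prime) (hp5 : 5 ≤ p) (hr : r.Prime) {a : ℕ} (hT : T = r ^ a)
    (hF : F ∣ T) (hlt : F < T) (hmod : T ≡ F [MOD p]) : 5 * F ≤ T := by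
  obtain ⟨b, hb, rfl⟩ := (Nat.dvd_prime_pow hr).1 (hT ▸ hF)
  subst hT
  have hba : b < a := (Nat.pow_lt_pow_iff_right hr.one_lt).1 hlt
  obtain ⟨j, rfl⟩ := Nat.exists_eq_add_of_le hb
  have hj : 0 < j := by omega
  rw [pow_add, mul_comm 5]
  refine Nat.mul_le_mul_left _ ?_
  by_cases hrp : r = p
  · exact le_trans (hrp ▸ hp5) (Nat.le_self_pow hj.ne' r)
  · have h1 : r ^ j ≡ 1 [MOD p] := by
      refine Nat.ModEq.cancel_left_of_coprime (c := r ^ b) ?_ ?_
      · exact Nat.Coprime.pow_right b ((Nat.coprime_primes hp hr).2 (Ne.symm hrp))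
      · rw [mul_one, ← pow_add]; exact hmod
    have h2 : 1 ≤ r ^ j := Nat.one_le_pow _ _ hr.pos
    have h3 : r ^ j ≠ 1 := (Nat.one_lt_pow hj.ne' hr.one_lt).ne'
    have h4 := Nat.le_of_dvd (by omega) ((Nat.modEq_iff_dvd' h2).1 h1.symm)
    omega

/-- The bound on a quotient by a maximal subgroup. -/
theorem five_mul_fixed_le_coset [Group.IsSolvable G] (M : Subgroup G) (hM : IsCoatom M) {g : G} {p : ℕ}
    [hp : Fact p.Prime] (hp5 : 5 ≤ p) (hg : orderOf g = p)
    (hgen : Subgroup.normalClosure ({g} : Set G) = ⊤) :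
    5 * Nat.card (fixedBy (G ⧸ M) g) ≤ Nat.card (G ⧸ M) := by
  classical
  rcases isEmpty_or_nonempty (fixedBy (G ⧸ M) g) with h | ⟨⟨q, hq⟩⟩
  · simp
  obtain ⟨x, rfl⟩ := QuotientGroup.mk_surjective q
  set h := x⁻¹ * g * x with hh
  have hhM : h ∈ M := by
    have := QuotientGroup.eq.1 (show ((g * x : G) : G ⧸ M) = (x : G ⧸ M) from hq)
    have := inv_mem this
    simpa [hh, mul_assoc] using this
  have hho : orderOf h = p := by
    rw [← hg, hh]
    conv_rhs => rw [← MulEquiv.orderOf_eq (MulAut.conj x⁻¹) g]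
    simp [MulAut.conj_apply]
  have hcard : Nat.card (fixedBy (G ⧸ M) g) = Nat.card (fixedBy (G ⧸ M) h) := by
    refine Nat.card_congr (Equiv.subtypeEquiv (MulAction.toPerm x⁻¹) fun y => ?_)
    simp only [mem_fixedBy, MulAction.toPerm_apply, hh, mul_smul, smul_inv_smul]
    exact ((MulAction.injective x⁻¹).eq_iff).symm
  rw [hcard]
  set K := M.normalCore with hK
  have hKM : K ≤ M := M.normalCore_le
  have : Nontrivial (G ⧸ K) := by
    rw [← Finite.one_lt_card_iff_nontrivial, ← Subgroup.index_eq_card]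
    have h0 : K.index ≠ 0 := Subgroup.index_ne_zero_of_finite
    have h1 : K.index ≠ 1 := fun h => hM.1 (top_le_iff.1 ((Subgroup.index_eq_one.1 h) ▸ hKM))
    omega
  obtain ⟨N₀, r, a, hN₀n, hr, ha, -, hN₀card, hN₀1, hN₀comm, -⟩ :=
    CfsgLib.Solvable.exists_normal_prime_pow_card (G := G ⧸ K)
  set N := N₀.comap (QuotientGroup.mk' K) with hN
  have hNn : N.Normal := hN₀n.comap _
  have hKN : K ≤ N := fun k hk => by
    rw [hN, Subgroup.mem_comap, QuotientGroup.mk'_apply, (QuotientGroup.eq_one_iff k).2 hk]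
    exact one_mem _
  have hcomm : ∀ u ∈ N, ∀ v ∈ N, ⁅u, v⁆ ∈ K := fun u hu v hv => by
    rw [← QuotientGroup.eq_one_iff]
    change QuotientGroup.mk' K ⁅u, v⁆ = 1
    rw [map_commutatorElement, commutatorElement_eq_one_iff_mul_comm]
    exact hN₀comm _ hu _ hv
  have hNM : ¬ N ≤ M := by
    intro hle
    apply hN₀1
    have hle' : N ≤ K := by rw [hK, Subgroup.normal_le_normalCore]; exact hle
    refine (Subgroup.eq_bot_iff_forall _).2 fun y hy => ?_
    obtain ⟨y, rfl⟩ := QuotientGroup.mk'_surjective K y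
    exact (QuotientGroup.eq_one_iff y).2 (hle' hy)
  have hsup : N ⊔ M = ⊤ := by
    rcases hM.le_iff.1 (le_sup_right : M ≤ N ⊔ M) with e | e
    · exact e
    · exact absurd (e ▸ le_sup_left) hNM
  have hinfn : (N ⊓ M).Normal := by
    rw [← Subgroup.normalizer_eq_top_iff, eq_top_iff, ← hsup]
    have hclosed : ∀ u : G, (∀ y ∈ N ⊓ M, u * y * u⁻¹ ∈ N ⊓ M) →
        u ∈ Subgroup.normalizer ((N ⊓ M : Subgroup G) : Set G) := fun u hu =>
      Subgroup.mem_normalizer_fintype (S := ((N ⊓ M : Subgroup G) : Set G)) hu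
    refine sup_le (fun u hu => hclosed u fun y hy => ⟨hNn.conj_mem y hy.1 u, ?_⟩)
      fun u hu => hclosed u fun y hy => ⟨hNn.conj_mem y hy.1 u, M.mul_mem (M.mul_mem hu hy.2) (M.inv_mem hu)⟩
    have e : u * y * u⁻¹ = ⁅u, y⁆ * y := by rw [commutatorElement_def]; group
    rw [e]
    exact M.mul_mem (hKM (hcomm u hu y hy.1)) hy.2
  have hinf : N ⊓ M = K := by
    refine le_antisymm ?_ (le_inf hKN hKM)
    rw [hK, Subgroup.normal_le_normalCore]
    exact inf_le_right
  let C : Subgroup G :=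
    { carrier := {n | n ∈ N ∧ n⁻¹ * h * n * h⁻¹ ∈ K}
      one_mem' := ⟨one_mem _, by simp⟩
      mul_mem' := by
        rintro u v ⟨hu, hu'⟩ ⟨hv, hv'⟩
        refine ⟨mul_mem hu hv, ?_⟩
        have e : (u * v)⁻¹ * h * (u * v) * h⁻¹ = (v⁻¹ * (u⁻¹ * h * u * h⁻¹) * v) * (v⁻¹ * h * v * h⁻¹) := by
          group
        rw [e]
        refine mul_mem ?_ hv'
        simpa using M.normalCore_normal.conj_mem _ hu' v⁻¹
      inv_mem' := by
        rintro u ⟨hu, hu'⟩
        refine ⟨inv_mem hu, ?_⟩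
        have := M.normalCore_normal.conj_mem _ (inv_mem hu') u
        have e : (u⁻¹)⁻¹ * h * u⁻¹ * h⁻¹ = u * (u⁻¹ * h * u * h⁻¹)⁻¹ * u⁻¹ := by group
        rw [e]; exact this }
  have hCN : C ≤ N := fun u hu => hu.1
  have hKC : K ≤ C := fun u hu => ⟨hKN hu, by
    have h1 := M.normalCore_normal.conj_mem u hu h
    have e : u⁻¹ * h * u * h⁻¹ = u⁻¹ * (h * u * h⁻¹) := by group
    rw [e]; exact mul_mem (inv_mem hu) h1⟩
  let o : G ⧸ M := (1 : G)
  have hfixC : ∀ n ∈ N, (h • (n : G ⧸ M) = n ↔ n ∈ C) := by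
    intro n hn
    change ((h * n : G) : G ⧸ M) = n ↔ _
    rw [QuotientGroup.eq]
    refine ⟨fun hm => ⟨hn, ?_⟩, fun hm => ?_⟩
    · rw [← hinf]
      refine ⟨?_, ?_⟩
      · have e : n⁻¹ * h * n * h⁻¹ = n⁻¹ * (h * n * h⁻¹) := by group
        rw [e]; exact N.mul_mem (N.inv_mem hn) (hNn.conj_mem n hn h)
      · have := M.inv_mem hm
        simp only [mul_inv_rev, inv_inv] at this
        have e : n⁻¹ * h * n * h⁻¹ = n⁻¹ * (h * n) * h⁻¹ := by group
        rw [e]; exact M.mul_mem this (M.inv_mem hhM)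
    · have h1 : n⁻¹ * h * n ∈ M := by
        have := M.mul_mem (hKM hm.2) hhM
        simpa using this
      have := M.inv_mem h1
      simpa [mul_assoc] using this
  have hstab : ∀ n : G, n • o = o ↔ n ∈ M := fun n => by
    change ((n * 1 : G) : G ⧸ M) = ((1 : G) : G ⧸ M) ↔ _
    rw [QuotientGroup.eq]; simp
  have hrep : ∀ y : G ⧸ M, ∃ n ∈ N, (n : G ⧸ M) = y := by
    intro y
    obtain ⟨u, rfl⟩ := QuotientGroup.mk_surjective y
    have hu : u ∈ ((N ⊔ M : Subgroup G) : Set G) := by rw [hsup]; trivial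
    rw [Subgroup.normal_mul] at hu
    obtain ⟨n, hn, m, hm, rfl⟩ := hu
    exact ⟨n, hn, QuotientGroup.eq.2 (by simpa using hm)⟩
  have hT : Nat.card (G ⧸ M) = K.relIndex N := by
    rw [Subgroup.relIndex, show K.subgroupOf N = MulAction.stabilizer ↥N o from ?_, MulAction.index_stabilizer]
    · rw [← Nat.card_coe_set_eq]
      refine (Nat.card_congr (Equiv.subtypeUnivEquiv fun y => ?_)).symm
      obtain ⟨n, hn, rfl⟩ := hrep y
      exact ⟨⟨n, hn⟩, show ((n * 1 : G) : G ⧸ M) = n by rw [mul_one]⟩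
    · ext n
      rw [Subgroup.mem_subgroupOf, MulAction.mem_stabilizer_iff, ← hinf]
      exact ⟨fun hn => (hstab n).2 hn.2, fun hn => ⟨n.2, (hstab n).1 hn⟩⟩
  have hF : Nat.card (fixedBy (G ⧸ M) h) = K.relIndex C := by
    rw [Subgroup.relIndex, show K.subgroupOf C = MulAction.stabilizer ↥C o from ?_, MulAction.index_stabilizer,
      ← Nat.card_coe_set_eq]
    · refine Nat.card_congr (Equiv.subtypeEquivRight fun y => ?_)
      constructor
      · intro hy
        obtain ⟨n, hn, rfl⟩ := hrep y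
        exact ⟨⟨n, (hfixC n hn).1 hy⟩, show ((n * 1 : G) : G ⧸ M) = n by rw [mul_one]⟩
      · rintro ⟨⟨n, hn⟩, rfl⟩
        change h • ((n * 1 : G) : G ⧸ M) = _
        rw [mul_one]
        exact (hfixC n hn.1).2 hn |>.trans (show (n : G ⧸ M) = ((n * 1 : G) : G ⧸ M) by rw [mul_one])
    · ext n
      rw [Subgroup.mem_subgroupOf, MulAction.mem_stabilizer_iff, ← hinf]
      exact ⟨fun hn => (hstab n).2 hn.2, fun hn => ⟨hCN n.2, (hstab n).1 hn⟩⟩
  have hTr : K.relIndex N = r ^ a := by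
    rw [← hN₀card, ← Subgroup.relIndex_bot_left N₀]
    have := Subgroup.relIndex_comap (f := QuotientGroup.mk' K) (H := (⊥ : Subgroup (G ⧸ K))) (K := N)
    rw [MonoidHom.comap_bot, QuotientGroup.ker_mk',
      Subgroup.map_comap_eq_self_of_surjective (QuotientGroup.mk'_surjective K)] at this
    exact this
  have hlt : Nat.card (fixedBy (G ⧸ M) h) < Nat.card (G ⧸ M) := by
    refine lt_of_le_of_ne (Finite.card_subtype_le _) fun e => hM.1 (top_le_iff.1 ?_)
    have hall : ∀ y : G ⧸ M, h • y = y := by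
      intro y
      by_contra hy
      exact (Finite.card_subtype_lt (p := fun y : G ⧸ M => h • y = y) (x := y) hy).ne e
    rw [← hgen]
    refine (Subgroup.normalClosure_le_normal ?_).trans hKM
    intro u hu
    rw [Set.mem_singleton_iff] at hu
    subst hu
    intro v
    have h1 := hall ((x⁻¹ * v⁻¹ : G) : G ⧸ M)
    change ((h * (x⁻¹ * v⁻¹) : G) : G ⧸ M) = ((x⁻¹ * v⁻¹ : G) : G ⧸ M) at h1
    rw [QuotientGroup.eq] at h1
    have h2 := inv_mem h1
    simpa [hh, mul_assoc] using h2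
  have hmod : Nat.card (G ⧸ M) ≡ Nat.card (fixedBy (G ⧸ M) h) [MOD p] := by
    have hpg : IsPGroup p (Subgroup.zpowers h) :=
      IsPGroup.of_card (n := 1) (by rw [Nat.card_zpowers, hho, pow_one])
    have e := hpg.card_modEq_card_fixedPoints (G ⧸ M)
    have hset : fixedPoints (Subgroup.zpowers h) (G ⧸ M) = fixedBy (G ⧸ M) h := by
      ext y
      refine ⟨fun hy => hy ⟨h, Subgroup.mem_zpowers h⟩, ?_⟩
      rintro hy ⟨u, m, rfl⟩
      exact (zpow_mem (show h ∈ stabilizer G y from hy) m : h ^ m ∈ stabilizer G y)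
    rwa [hset] at e
  refine five_le_of_dvd hp.out hp5 hr (hT.trans hTr) ?_ hlt hmod
  rw [hT, hF, ← Subgroup.relIndex_mul_relIndex K C N hKC hCN]
  exact dvd_mul_right _ _

/-- An element of prime order at least five whose conjugates generate the solvable group fixes at most
a fifth of the points of a nontrivial transitive action. -/
theorem five_mul_fixed_le [Group.IsSolvable G] {Ω : Type*} [Finite Ω] [MulAction G Ω]
    [IsPretransitive G Ω] (hΩ : 1 < Nat.card Ω) {g : G} {p : ℕ} [Fact p.Prime] (hp5 : 5 ≤ p)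
    (hg : orderOf g = p) (hgen : Subgroup.normalClosure ({g} : Set G) = ⊤) :
    5 * Nat.card (fixedBy Ω g) ≤ Nat.card Ω := by
  classical
  obtain ⟨a⟩ := (Nat.card_pos_iff.1 (zero_lt_one.trans hΩ)).1
  have hH : stabilizer G a ≠ ⊤ := by
    intro h
    have := MulAction.index_stabilizer_of_transitive G a
    rw [h, Subgroup.index_top] at this
    omega
  obtain ⟨M, hM, hHM⟩ := (eq_top_or_exists_le_coatom (stabilizer G a)).resolve_left hH
  choose c hc using fun ω : Ω => MulAction.exists_smul_eq G a ω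
  let f : Ω → G ⧸ M := fun ω => (c ω : G ⧸ M)
  have hf : ∀ (y : G) ω, f (y • ω) = y • f ω := by
    intro y ω
    change ((c (y • ω) : G) : G ⧸ M) = ((y * c ω : G) : G ⧸ M)
    rw [QuotientGroup.eq]
    refine hHM ?_
    rw [MulAction.mem_stabilizer_iff, mul_smul, mul_smul, hc ω, inv_smul_eq_iff, hc]
  have hfib : ∀ q q' : G ⧸ M, Nat.card {ω // f ω = q} = Nat.card {ω // f ω = q'} := by
    intro q q'
    obtain ⟨y, rfl⟩ := MulAction.exists_smul_eq G q q'
    refine Nat.card_congr (Equiv.subtypeEquiv (MulAction.toPerm y) fun ω => ?_)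
    simp only [MulAction.toPerm_apply, hf]
    exact ((MulAction.injective y).eq_iff).symm
  have : Fintype (G ⧸ M) := Fintype.ofFinite _
  set s := Nat.card {ω // f ω = ((1 : G) : G ⧸ M)} with hs
  have htot : Nat.card Ω = Nat.card (G ⧸ M) * s := by
    rw [← Nat.card_congr (Equiv.sigmaFiberEquiv f), Nat.card_sigma,
      Finset.sum_congr rfl (fun q _ => hfib q ((1 : G) : G ⧸ M)), Finset.sum_const, Finset.card_univ,
      Nat.card_eq_fintype_card (α := G ⧸ M), smul_eq_mul]
  have hfix : Nat.card (fixedBy Ω g) ≤ Nat.card (fixedBy (G ⧸ M) g) * s := by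
    let j : fixedBy Ω g → Σ q : fixedBy (G ⧸ M) g, {ω // f ω = q} := fun ω =>
      ⟨⟨f ω, by rw [mem_fixedBy, ← hf]; exact congrArg f ω.2⟩, ω.1, rfl⟩
    have hj : Function.Injective j := fun u v h => Subtype.ext
      (congrArg (fun z : Σ q : fixedBy (G ⧸ M) g, {ω // f ω = q} => z.2.1) h :)
    refine (Nat.card_le_card_of_injective j hj).trans (le_of_eq ?_)
    rw [Nat.card_sigma, Finset.sum_congr rfl (fun q _ => hfib q.1 ((1 : G) : G ⧸ M)), Finset.sum_const,
      Finset.card_univ, ← Nat.card_eq_fintype_card (α := fixedBy (G ⧸ M) g), smul_eq_mul]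
  calc 5 * Nat.card (fixedBy Ω g) ≤ 5 * (Nat.card (fixedBy (G ⧸ M) g) * s) := Nat.mul_le_mul_left _ hfix
    _ = 5 * Nat.card (fixedBy (G ⧸ M) g) * s := (mul_assoc ..).symm
    _ ≤ Nat.card (G ⧸ M) * s := Nat.mul_le_mul_right _ (five_mul_fixed_le_coset M hM hp5 hg hgen)
    _ = Nat.card Ω := htot.symm

end CfsgLib.FGS.FixedHalf
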