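/-
The index of the fixed subgroup of an element of prime order in a solvable irreducible group of
isometries of a symplectic module.
-/
import Cfsg.Agent.Lib.TISub.Line
import Cfsg.Agent.Lib.Classical.SmallIso.PSL2

set_option autoImplicit false

namespace CfsgLib.FGS.FixedHalf

open Matrix

theorem not_solvable_sl_two (p : ℕ) [hp : Fact p.Prime] (hp5 : 5 ≤ p) :
    ¬ Group.IsSolvable (SpecialLinearGroup (Fin 2) (ZMod p)) := by
  intro hs
  have : Nontrivial (SpecialLinearGroup (Fin 2) (ZMod p)) :=
    ⟨CfsgLib.TISub.upper 1, 1, fun h => by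
      have := congrArg (fun m : SpecialLinearGroup (Fin 2) (ZMod p) => m.1 0 1) h
      simp [CfsgLib.TISub.upper_coe] at this⟩
  have : NeZero p := ⟨hp.out.ne_zero⟩
  exact (Group.IsSolvable.commutator_lt_top_of_nontrivial _).ne
    (CfsgLib.Classical.SmallIso.commutator_sl_two (F := ZMod p) (by rw [ZMod.card p]; omega))

variable {G M : Type*} [Group G] [CommGroup M]

/-- `x ↦ x⁻¹ * a x`. -/
def disp (φ : MulAut M) : M →* M where
  toFun x := x⁻¹ * φ x
  map_one' := by simp
  map_mul' x y := by simp only [mul_inv, map_mul]; exact mul_mul_mul_comm _ _ _ _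

theorem apply_eq_mul_disp (φ : MulAut M) (x : M) : φ x = x * disp φ x :=
  (mul_inv_cancel_left x (φ x)).symm

theorem mem_ker_disp {φ : MulAut M} {x : M} : x ∈ (disp φ).ker ↔ φ x = x := by
  rw [MonoidHom.mem_ker]
  exact ⟨fun h => by rw [apply_eq_mul_disp φ x, h, mul_one], fun h => by
    change x⁻¹ * φ x = 1; rw [h, inv_mul_cancel]⟩

theorem pow_apply_of_fixed {φ : MulAut M} {x : M} (h : φ (disp φ x) = disp φ x) (n : ℕ) :
    (φ ^ n) x = x * disp φ x ^ n := by
  induction n with
  | zero => simp
  | succ n ih =>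
    rw [pow_succ', MulAut.mul_apply, ih, map_mul, map_pow, h, apply_eq_mul_disp φ x, mul_assoc, pow_succ']

variable {L : Type*} [Field L]

/-- An alternating nondegenerate pairing into a field. -/
structure IsAltPairing (b : M → M → L) : Prop where
  ne_zero : ∀ x y, b x y ≠ 0
  mul_left : ∀ x y z, b (x * y) z = b x z * b y z
  mul_right : ∀ x y z, b x (y * z) = b x y * b x z
  self : ∀ x, b x x = 1
  nondeg : ∀ x, (∀ y, b x y = 1) → x = 1

variable {b : M → M → L}

theorem IsAltPairing.one_left (hb : IsAltPairing b) (y : M) : b 1 y = 1 := by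
  have h := hb.mul_left 1 1 y
  rw [one_mul] at h
  exact (mul_right_eq_self₀.1 h.symm).resolve_right (hb.ne_zero 1 y)

theorem IsAltPairing.skew (hb : IsAltPairing b) {x y : M} (h : b x y = 1) : b y x = 1 := by
  have h' := hb.self (x * y)
  rw [hb.mul_left, hb.mul_right, hb.mul_right, hb.self, hb.self, h, one_mul, one_mul, mul_one] at h'
  exact h'

theorem IsAltPairing.pow_left (hb : IsAltPairing b) (x y : M) (n : ℕ) : b (x ^ n) y = b x y ^ n := by
  induction n with
  | zero => simp [hb.one_left]
  | succ n ih => rw [pow_succ, hb.mul_left, ih, pow_succ]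

/-- The orthogonal of a subgroup. -/
def IsAltPairing.perp (hb : IsAltPairing b) (D : Subgroup M) : Subgroup M where
  carrier := {y | ∀ d ∈ D, b d y = 1}
  one_mem' := fun d _ => hb.skew (hb.one_left d)
  mul_mem' := fun {x y} hx hy d hd => by rw [hb.mul_right, hx d hd, hy d hd, one_mul]
  inv_mem' := fun {x} hx d hd => by
    have h := hb.mul_right d x x⁻¹
    rw [mul_inv_cancel, hb.skew (hb.one_left d), hx d hd, one_mul] at h
    exact h.symm

variable [Finite M]

theorem disp_perp (hb : IsAltPairing b) (φ : MulAut M) (hφ : ∀ x y, b (φ x) (φ y) = b x y) :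
    (disp φ).ker ≤ hb.perp (disp φ).range := by
  rintro c hc _ ⟨x, rfl⟩
  have h := hφ x c
  rw [mem_ker_disp.1 hc, apply_eq_mul_disp φ x, hb.mul_left] at h
  exact mul_left_cancel₀ (hb.ne_zero x c) (h.trans (mul_one _).symm)

/-- An isometry whose fixed subgroup has prime index is a transvection. -/
theorem disp_le_ker (hb : IsAltPairing b) (φ : MulAut M) (hφ : ∀ x y, b (φ x) (φ y) = b x y)
    {i : ℕ} [hi : Fact i.Prime] (hD : Nat.card (disp φ).range = i) :
    (disp φ).range ≤ (disp φ).ker ∧ hb.perp (disp φ).range = (disp φ).ker := by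
  have hidx : (disp φ).ker.index = i := by rw [Subgroup.index_ker, hD]
  have hcyc : IsCyclic (disp φ).range := isCyclic_of_prime_card hD
  obtain ⟨⟨t, ht⟩, hgen⟩ := hcyc.exists_generator
  have hDD : ∀ d ∈ (disp φ).range, ∀ d' ∈ (disp φ).range, b d d' = 1 := by
    intro d hd d' hd'
    obtain ⟨n, hn⟩ := (mem_powers_iff_mem_zpowers.2 (hgen ⟨d, hd⟩) : _)
    obtain ⟨m, hm⟩ := (mem_powers_iff_mem_zpowers.2 (hgen ⟨d', hd'⟩) : _)
    have e1 : t ^ n = d := congrArg Subtype.val hn
    have e2 : t ^ m = d' := congrArg Subtype.val hm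
    rw [← e1, ← e2, hb.pow_left, hb.skew (show b (t ^ m) t = 1 by rw [hb.pow_left, hb.self, one_pow]), one_pow]
  have hperp : hb.perp (disp φ).range = (disp φ).ker := by
    have hle := disp_perp hb φ hφ
    have hd := Subgroup.index_dvd_of_le hle
    rw [hidx] at hd
    rcases (Nat.dvd_prime hi.out).1 hd with h | h
    · exfalso
      have ht1 : t ≠ 1 := by
        intro e
        have hc : Nat.card (disp φ).range ≤ 1 := Finite.card_le_one_iff_subsingleton.2 ⟨fun u v => by
          obtain ⟨n, hn⟩ := hgen u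
          obtain ⟨m, hm⟩ := hgen v
          apply Subtype.ext
          rw [← hn, ← hm]
          simp [e]⟩
        rw [hD] at hc
        exact absurd hc (not_le.2 hi.out.one_lt)
      exact ht1 (hb.nondeg t fun y => (show y ∈ hb.perp (disp φ).range by
        rw [Subgroup.index_eq_one.1 h]; exact Subgroup.mem_top y) t ht)
    · refine (Subgroup.eq_of_le_of_card_ge hle ?_).symm
      have e1 := (hb.perp (disp φ).range).card_mul_index
      have e2 := (disp φ).ker.card_mul_index
      rw [h] at e1
      rw [hidx, ← e1] at e2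
      exact (Nat.eq_of_mul_eq_mul_right hi.out.pos e2).ge
  refine ⟨?_, hperp⟩
  rw [← hperp]
  exact fun d hd d' hd' => hDD d' hd' d hd

variable [Finite G] [Group.IsSolvable G]

/-- The fixed subgroup of an element of prime order `≥ 5` whose conjugates generate a solvable group of
isometries acting irreducibly has large index. -/
theorem fixed_bound (hb : IsAltPairing b) {r : ℕ} [hr : Fact r.Prime] (hMr : ∀ x : M, x ^ r = 1)
    (a : G →* MulAut M) (hinv : ∀ u x y, b (a u x) (a u y) = b x y)
    (hirr : ∀ D : Subgroup M, (∀ u, ∀ x ∈ D, a u x ∈ D) → D = ⊥ ∨ D = ⊤)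
    {g : G} {p : ℕ} [hp : Fact p.Prime] (hp5 : 5 ≤ p) (hg : orderOf g = p)
    (hgen : Subgroup.normalClosure ({g} : Set G) = ⊤) (hg1 : a g ≠ 1) :
    4 * (p - 1) * Nat.card (disp (a g)).ker ≤ (p - 4) * Nat.card M := by
  classical
  set i := Nat.card (disp (a g)).range with hi
  have hM : Nat.card M = Nat.card (disp (a g)).ker * i := by
    rw [hi, ← Subgroup.index_ker, Subgroup.card_mul_index]
  suffices h : 4 * (p - 1) ≤ (p - 4) * i by
    rw [hM, mul_comm (Nat.card _) i, ← mul_assoc]
    exact Nat.mul_le_mul_right _ h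
  have hi1 : (disp (a g)).range ≠ ⊥ := by
    intro h
    apply hg1
    refine MulEquiv.ext fun x => ?_
    have : disp (a g) x ∈ (disp (a g)).range := ⟨x, rfl⟩
    rw [h, Subgroup.mem_bot] at this
    rw [apply_eq_mul_disp (a g) x, this, mul_one]; rfl
  obtain ⟨j, hj⟩ : ∃ j, i = r ^ j := by
    have : IsPGroup r (disp (a g)).range := fun x => ⟨1, Subtype.ext (by simpa using hMr x)⟩
    exact this.exists_card_eq
  have hj1 : j ≠ 0 := by
    rintro rfl
    exact hi1 (Subgroup.card_eq_one.1 (by rw [← hi, hj, pow_zero]))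
  have hpow : ∀ x, a g (disp (a g) x) = disp (a g) x → disp (a g) x ^ p = 1 := by
    intro x hx
    have h := pow_apply_of_fixed hx p
    rw [← map_pow, ← hg, pow_orderOf_eq_one, map_one, MulAut.one_apply, hg] at h
    exact left_eq_mul.1 h
  have hord : ∀ d : M, d ≠ 1 → d ^ p = 1 → r = p := by
    intro d hd hdp
    have h1 := orderOf_eq_prime (hMr d) hd
    have h2 := orderOf_eq_prime hdp hd
    exact h1.symm.trans h2
  -- a prime index means a transvection, and then `r = p`
  have hpr : j = 1 → r = p := by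
    rintro rfl
    have hcard : Nat.card (disp (a g)).range = r := by rw [← hi, hj, pow_one]
    obtain ⟨hle, -⟩ := disp_le_ker hb (a g) (hinv g) hcard
    obtain ⟨⟨_, x, rfl⟩, hx1⟩ := Subgroup.ne_bot_iff_exists_ne_one.1 hi1
    exact hord _ (fun e => hx1 (Subtype.ext e)) (hpow x (mem_ker_disp.1 (hle ⟨x, rfl⟩)))
  rcases ne_or_eq r p with hrp | hrp
  · have hj2 : 2 ≤ j := by
      by_contra h
      exact hrp (hpr (by omega))
    -- `g` fixes no nontrivial displacement
    have hinvD : ∀ d ∈ (disp (a g)).range, a g d ∈ (disp (a g)).range := by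
      rintro _ ⟨x, rfl⟩
      exact ⟨a g x, by change (a g x)⁻¹ * a g (a g x) = a g (x⁻¹ * a g x); rw [map_mul, map_inv]⟩
    let σ : Equiv.Perm (disp (a g)).range :=
      Equiv.ofBijective (fun d => ⟨a g d, hinvD d d.2⟩)
        (Finite.injective_iff_bijective.1 fun u v h => Subtype.ext ((a g).injective (congrArg Subtype.val h)))
    have hσn : ∀ n : ℕ, ∀ d, ((σ ^ n) d : M) = (a g ^ n) d := by
      intro n
      induction n with
      | zero => intro d; simp
      | succ n ih =>
        intro d
        rw [pow_succ', Equiv.Perm.mul_apply, pow_succ', MulAut.mul_apply, ← ih d]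
        rfl
    have hσp : σ ^ p ^ 1 = 1 := by
      refine Equiv.ext fun d => Subtype.ext ?_
      rw [hσn, ← map_pow, pow_one, ← hg, pow_orderOf_eq_one, map_one]; rfl
    have : Fintype (disp (a g)).range := Fintype.ofFinite _
    have hmod := Equiv.Perm.card_compl_support_modEq hσp
    have hsupp : σ.supportᶜ = {1} := by
      ext d
      simp only [Finset.mem_compl, Equiv.Perm.mem_support, not_not, Finset.mem_singleton]
      constructor
      · intro hd
        obtain ⟨_, x, rfl⟩ := d
        by_contra hne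
        exact hrp (hord _ (fun e => hne (Subtype.ext e)) (hpow x (congrArg Subtype.val hd)))
      · rintro rfl
        exact Subtype.ext (map_one _)
    rw [hsupp, Finset.card_singleton, ← Nat.card_eq_fintype_card, ← hi] at hmod
    have h2i : 2 ≤ i := hj ▸ le_trans hr.out.two_le (Nat.le_self_pow hj1 r)
    have hdvd : p ∣ i - 1 := (Nat.modEq_iff_dvd' (by omega)).1 hmod
    have hle : p ≤ i - 1 := Nat.le_of_dvd (by omega) hdvd
    rcases Nat.lt_or_ge p 6 with h6 | h6
    · have hp5' : p = 5 := by omega
      subst hp5'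
      rcases Nat.lt_or_ge i 16 with h16 | h16
      · exfalso
        have hr4 : r < 4 := by
          by_contra h
          have h4r : 4 ^ 2 ≤ r ^ 2 := Nat.pow_le_pow_left (by omega) 2
          have h2j : r ^ 2 ≤ r ^ j := Nat.pow_le_pow_right hr.out.pos hj2
          omega
        have hj4 : j < 4 := by
          by_contra h
          have h4 : 2 ^ 4 ≤ r ^ 4 := Nat.pow_le_pow_left hr.out.two_le 4
          have h5 : r ^ 4 ≤ r ^ j := Nat.pow_le_pow_right hr.out.pos (by omega)
          omega
        have := hr.out.two_le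
        interval_cases r <;> interval_cases j <;> omega
      · omega
    · obtain ⟨q, rfl⟩ := Nat.exists_eq_add_of_le (show 7 ≤ p by
        rcases h6.eq_or_lt with h | h
        · exact absurd hp.out (by rw [← h]; norm_num)
        · exact h)
      rw [show 7 + q - 1 = 6 + q by omega, show 7 + q - 4 = 3 + q by omega]
      refine le_trans ?_ (Nat.mul_le_mul_left _ (show 8 + q ≤ i by omega))
      nlinarith
  subst hrp
  rcases Nat.lt_or_ge j 2 with hj2 | hj2
  swap
  · have h25 : r ^ 2 ≤ i := hj ▸ Nat.pow_le_pow_right hr.out.pos hj2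
    refine le_trans ?_ (Nat.mul_le_mul_left _ h25)
    obtain ⟨q, rfl⟩ := Nat.exists_eq_add_of_le hp5
    rw [show 5 + q - 1 = 4 + q by omega, show 5 + q - 4 = 1 + q by omega]
    nlinarith
  exfalso
  have hcardg : Nat.card (disp (a g)).range = r := by
    rw [← hi, hj, show j = 1 by omega, pow_one]
  -- all conjugates are transvections
  have hcardh : ∀ u, Nat.card (disp (a (u * g * u⁻¹))).range = r := by
    intro u
    have hmap : (disp (a g)).range.map (a u).toMonoidHom = (disp (a (u * g * u⁻¹))).range := by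
      have key : ∀ x, a u (disp (a g) x) = disp (a (u * g * u⁻¹)) (a u x) := fun x => by
        change a u (x⁻¹ * a g x) = (a u x)⁻¹ * a (u * g * u⁻¹) (a u x)
        rw [map_mul, map_inv, map_mul a, map_mul a, MulAut.mul_apply, MulAut.mul_apply, map_inv,
          MulAut.inv_apply_self]
      ext y
      constructor
      · rintro ⟨_, ⟨x, rfl⟩, rfl⟩
        exact ⟨a u x, (key x).symm⟩
      · rintro ⟨x, rfl⟩
        obtain ⟨x, rfl⟩ := (a u).surjective x
        exact ⟨_, ⟨x, rfl⟩, key x⟩
    rw [← hmap, Subgroup.card_map_of_injective (a u).injective, hcardg]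
  have hconj : ∀ u, orderOf (u * g * u⁻¹) = r := fun u => by
    rw [← hg, ← MulAut.conj_apply, MulEquiv.orderOf_eq]
  have hcomm : ∀ u, Commute (a g) (a (u * g * u⁻¹)) := by
    intro u
    set h := u * g * u⁻¹ with hh
    obtain ⟨hlg, hpg⟩ := disp_le_ker hb (a g) (hinv g) hcardg
    obtain ⟨hlh, hph⟩ := disp_le_ker hb (a h) (hinv h) (hcardh u)
    by_cases hbts : ∀ d ∈ (disp (a g)).range, ∀ d' ∈ (disp (a h)).range, b d d' = 1
    · have h1 : ∀ x, a g (disp (a h) x) = disp (a h) x := fun x => mem_ker_disp.1 (by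
        rw [← hpg]; exact fun d hd => hbts d hd _ ⟨x, rfl⟩)
      have h2 : ∀ x, a h (disp (a g) x) = disp (a g) x := fun x => mem_ker_disp.1 (by
        rw [← hph]; exact fun d hd => hb.skew (hbts _ ⟨x, rfl⟩ d hd))
      refine MulEquiv.ext fun x => ?_
      rw [MulAut.mul_apply, MulAut.mul_apply]
      conv_lhs => rw [apply_eq_mul_disp (a h) x, map_mul, h1, apply_eq_mul_disp (a g) x]
      conv_rhs => rw [apply_eq_mul_disp (a g) x, map_mul, h2, apply_eq_mul_disp (a h) x]
      exact mul_right_comm _ _ _
    exfalso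
    push Not at hbts
    obtain ⟨t, ht, s, hs, hts⟩ := hbts
    have hgt : a g t = t := mem_ker_disp.1 (hlg ht)
    have hhs : a h s = s := mem_ker_disp.1 (hlh hs)
    have htp : t ^ r = 1 := hMr t
    have hsp : s ^ r = 1 := hMr s
    have ht1 : t ≠ 1 := fun e => hts (by rw [e, hb.one_left])
    have hs1 : s ≠ 1 := fun e => hts (by rw [e]; exact hb.skew (hb.one_left t))
    have hgenD : ∀ {D : Subgroup M}, Nat.card D = r → ∀ t ∈ D, t ≠ 1 → ∀ d ∈ D, ∃ n : ℕ, t ^ n = d := by
      intro D hD t ht ht1 d hd
      have hz : Subgroup.zpowers t = D := Subgroup.eq_of_le_of_card_ge (Subgroup.zpowers_le.2 ht)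
        (by rw [hD, Nat.card_zpowers, orderOf_eq_prime (hMr t) ht1])
      exact (Submonoid.mem_powers_iff _ _).1 (mem_powers_iff_mem_zpowers.2 (hz ▸ hd))
    obtain ⟨lam, hlam⟩ := hgenD hcardg t ht ht1 _ ⟨s, rfl⟩
    obtain ⟨mu, hmu⟩ := hgenD (hcardh u) s hs hs1 _ ⟨t, rfl⟩
    have hlam0 : (lam : ZMod r) ≠ 0 := by
      intro e
      rw [ZMod.natCast_eq_zero_iff] at e
      obtain ⟨c, rfl⟩ := e
      rw [pow_mul, htp, one_pow] at hlam
      have hsC : s ∈ hb.perp (disp (a g)).range := by rw [hpg]; exact hlam.symm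
      exact hts (hsC t ht)
    have hmu0 : (mu : ZMod r) ≠ 0 := by
      intro e
      rw [ZMod.natCast_eq_zero_iff] at e
      obtain ⟨c, rfl⟩ := e
      rw [pow_mul, hsp, one_pow] at hmu
      have htC : t ∈ hb.perp (disp (a h)).range := by rw [hph]; exact hmu.symm
      exact hts (hb.skew (htC s hs))
    let E : (Fin 2 → ZMod r) → M := fun v => t ^ (v 0).val * s ^ (v 1).val
    have hval : ∀ (x : M), x ^ r = 1 → ∀ n : ℕ, x ^ ((n : ZMod r)).val = x ^ n := fun x hx n => by
      rw [ZMod.val_natCast, ← pow_eq_pow_mod n hx]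
    have hEadd : ∀ (x : M), x ^ r = 1 → ∀ z w : ZMod r, x ^ (z + w).val = x ^ z.val * x ^ w.val := by
      intro x hx z w
      rw [ZMod.val_add, ← pow_eq_pow_mod _ hx, pow_add]
    have hEmul : ∀ (x : M), x ^ r = 1 → ∀ z w : ZMod r, x ^ (z * w).val = (x ^ z.val) ^ w.val := by
      intro x hx z w
      rw [ZMod.val_mul, ← pow_eq_pow_mod _ hx, pow_mul]
    have hbt : b t s ^ r = 1 := by rw [← hb.pow_left, htp, hb.one_left]
    have hbord : orderOf (b t s) = r := orderOf_eq_prime hbt hts
    have hEinj : Function.Injective E := by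
      intro v w hvw
      have e : ∀ x, b (E v) x = b (E w) x := fun x => by rw [hvw]
      simp only [E, hb.mul_left, hb.pow_left] at e
      have k1 := e s
      rw [hb.self, one_pow, one_pow, mul_one, mul_one] at k1
      have k2 := e t
      rw [hb.self, one_pow, one_pow, one_mul, one_mul] at k2
      have hbst : orderOf (b s t) = r := orderOf_eq_prime (by rw [← hb.pow_left, hsp, hb.one_left])
        fun e => hts (hb.skew e)
      have hlt : ∀ (v : Fin 2 → ZMod r) k, (v k).val ∈ Set.Iio r := fun v k => ZMod.val_lt _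
      funext k
      fin_cases k
      · exact ZMod.val_injective r (pow_injOn_Iio_orderOf (hbord.symm ▸ hlt v 0) (hbord.symm ▸ hlt w 0) k1)
      · exact ZMod.val_injective r (pow_injOn_Iio_orderOf (hbst.symm ▸ hlt v 1) (hbst.symm ▸ hlt w 1) k2)
    let U : SpecialLinearGroup (Fin 2) (ZMod r) →* Equiv.Perm (Fin 2 → ZMod r) :=
      MonoidHom.mk' (fun m => Equiv.ofBijective (fun v => m.1 *ᵥ v)
        (Finite.injective_iff_bijective.1 fun v w e => by
          have := congrArg ((m⁻¹).1 *ᵥ ·) e
          have h1 : (m⁻¹).1 * m.1 = 1 := congrArg Subtype.val (inv_mul_cancel m)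
          simp only [mulVec_mulVec, h1, one_mulVec] at this
          exact this))
        (fun m n => Equiv.ext fun v => (mulVec_mulVec v m.1 n.1).symm)
    have hUinj : Function.Injective U := fun m n e => Subtype.ext (Matrix.ext_of_mulVec_single fun k =>
      Equiv.congr_fun e (Pi.single k 1))
    have hgE : ∀ v, a g (E v) = E ((CfsgLib.TISub.upper (lam : ZMod r)).1 *ᵥ v) := by
      intro v
      simp only [E, map_mul, map_pow, hgt, CfsgLib.TISub.upper_coe]
      rw [apply_eq_mul_disp (a g) s, ← hlam, mul_pow, ← hval t htp lam, ← hEmul t htp]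
      simp only [mulVec, dotProduct, Fin.sum_univ_two, Matrix.of_apply, cons_val', cons_val_zero,
        cons_val_one, empty_val', cons_val_fin_one, one_mul, zero_mul, zero_add]
      rw [hEadd t htp]
      rw [mul_assoc, mul_comm (lam : ZMod r)]
      simp [mul_comm, mul_left_comm]
    have hhE : ∀ v, a h (E v) = E ((CfsgLib.TISub.lower (mu : ZMod r)).1 *ᵥ v) := by
      intro v
      simp only [E, map_mul, map_pow, hhs, CfsgLib.TISub.lower_coe]
      rw [apply_eq_mul_disp (a h) t, ← hmu, mul_pow, ← hval s hsp mu, ← hEmul s hsp]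
      simp only [mulVec, dotProduct, Fin.sum_univ_two, Matrix.of_apply, cons_val', cons_val_zero,
        cons_val_one, empty_val', cons_val_fin_one, one_mul, zero_mul, add_zero]
      rw [hEadd s hsp]
      exact mul_assoc _ _ _
    set H := Subgroup.closure ({g, h} : Set G) with hH
    have hst : ∀ y ∈ H, ∀ v, ∃ w, a y (E v) = E w := by
      intro y hy
      induction hy using Subgroup.closure_induction with
      | mem y hy =>
        rcases hy with rfl | rfl
        · exact fun v => ⟨_, hgE v⟩
        · exact fun v => ⟨_, hhE v⟩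
      | one => exact fun v => ⟨v, by rw [map_one]; rfl⟩
      | mul x y _ _ hx hy =>
        intro v
        obtain ⟨w, hw⟩ := hy v
        obtain ⟨w', hw'⟩ := hx w
        exact ⟨w', by rw [map_mul a, MulAut.mul_apply, hw, hw']⟩
      | inv x _ hx =>
        intro v
        choose f hf using hx
        have hfi : Function.Injective f := fun v w e => hEinj ((a x).injective (by rw [hf, hf, e]))
        obtain ⟨w, rfl⟩ := (Finite.injective_iff_surjective.1 hfi) v
        exact ⟨w, by rw [map_inv, ← hf, MulAut.inv_apply_self]⟩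
    choose F hF using fun y : H => hst y.1 y.2
    have hFbij : ∀ y, Function.Bijective (F y) := fun y =>
      Finite.injective_iff_bijective.1 fun v w e => hEinj ((a y.1).injective (by rw [hF, hF, e]))
    let ψ : H →* Equiv.Perm (Fin 2 → ZMod r) := MonoidHom.mk' (fun y => Equiv.ofBijective (F y) (hFbij y))
      (fun x y => Equiv.ext fun v => hEinj (by
        change E (F (x * y) v) = E (F x (F y v))
        rw [← hF, ← hF, ← hF, Subgroup.coe_mul, map_mul a, MulAut.mul_apply]))
    have hψg : ψ ⟨g, Subgroup.subset_closure (by simp)⟩ = U (CfsgLib.TISub.upper (lam : ZMod r)) :=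
      Equiv.ext fun v => hEinj (by
        change E (F _ v) = E (_ *ᵥ v)
        rw [← hF, hgE])
    have hψh : ψ ⟨h, Subgroup.subset_closure (by simp)⟩ = U (CfsgLib.TISub.lower (mu : ZMod r)) :=
      Equiv.ext fun v => hEinj (by
        change E (F _ v) = E (_ *ᵥ v)
        rw [← hF, hhE])
    have hupow : ∀ (x : ZMod r) (n : ℕ),
        (CfsgLib.TISub.upper x) ^ n = CfsgLib.TISub.upper ((n : ZMod r) * x) := by
      intro x n
      induction n with
      | zero => apply Subtype.ext; simp [CfsgLib.TISub.upper_coe, Matrix.one_fin_two]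
      | succ n ih =>
        rw [pow_succ, ih]
        apply Subtype.ext
        change (_ : Matrix (Fin 2) (Fin 2) (ZMod r)) * _ = _
        simp only [CfsgLib.TISub.upper_coe, mul_fin_two, mul_zero, mul_one, zero_add, add_zero, one_mul, zero_mul]
        push_cast
        rw [add_mul, one_mul, add_comm]
    have hlpow : ∀ (x : ZMod r) (n : ℕ),
        (CfsgLib.TISub.lower x) ^ n = CfsgLib.TISub.lower ((n : ZMod r) * x) := by
      intro x n
      induction n with
      | zero => apply Subtype.ext; simp [CfsgLib.TISub.lower_coe, Matrix.one_fin_two]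
      | succ n ih =>
        rw [pow_succ, ih]
        apply Subtype.ext
        change (_ : Matrix (Fin 2) (Fin 2) (ZMod r)) * _ = _
        simp only [CfsgLib.TISub.lower_coe, mul_fin_two, mul_zero, mul_one, zero_add, add_zero, one_mul, zero_mul]
        push_cast
        rw [add_mul, one_mul]
    have htop : (⊤ : Subgroup (SpecialLinearGroup (Fin 2) (ZMod r))) ≤ ψ.range.comap U := by
      rw [← CfsgLib.TISub.closure_unipotent, Subgroup.closure_le]
      rintro _ (⟨x, rfl⟩ | ⟨x, rfl⟩)
      · refine ⟨⟨g, Subgroup.subset_closure (by simp)⟩ ^ (x / (lam : ZMod r)).val, ?_⟩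
        rw [map_pow, hψg, ← map_pow, hupow, ZMod.natCast_zmod_val, div_mul_cancel₀ _ hlam0]
      · refine ⟨⟨h, Subgroup.subset_closure (by simp)⟩ ^ (x / (mu : ZMod r)).val, ?_⟩
        rw [map_pow, hψh, ← map_pow, hlpow, ZMod.natCast_zmod_val, div_mul_cancel₀ _ hmu0]
    apply not_solvable_sl_two r hp5
    have hsR : Group.IsSolvable ψ.range := solvable_of_surjective ψ.rangeRestrict_surjective
    exact solvable_of_solvable_injective (f := U.codRestrict ψ.range fun m => htop (Subgroup.mem_top m))
      fun m n e => hUinj (congrArg Subtype.val e)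
  -- so the image is cyclic
  have hgC : Subgroup.normalClosure ({g} : Set G) ≤ (Subgroup.centralizer ({a g} : Set (MulAut M))).comap a := by
    rw [Subgroup.normalClosure, Subgroup.closure_le]
    intro y hy
    obtain ⟨u', rfl, hc⟩ := Group.mem_conjugatesOfSet_iff.1 hy
    obtain ⟨u, rfl⟩ := isConj_iff.1 hc
    exact Subgroup.mem_centralizer_singleton_iff.2 (hcomm u).symm.eq
  rw [hgen] at hgC
  have hCinv : ∀ u, ∀ x ∈ (disp (a g)).ker, a u x ∈ (disp (a g)).ker := by
    intro u x hx
    have hc := Subgroup.mem_centralizer_singleton_iff.1 (hgC (Subgroup.mem_top u))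
    rw [mem_ker_disp] at hx ⊢
    have := DFunLike.congr_fun hc x
    rw [MulAut.mul_apply, MulAut.mul_apply, hx] at this
    exact this.symm
  obtain ⟨hle, -⟩ := disp_le_ker hb (a g) (hinv g) hcardg
  rcases hirr _ hCinv with h | h
  · exact hi1 (le_bot_iff.1 (h ▸ hle))
  · exact hg1 (MulEquiv.ext fun x => mem_ker_disp.1 (h ▸ Subgroup.mem_top x))

end CfsgLib.FGS.FixedHalf
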