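/-
The fixed space of an element of prime order at least five whose conjugates generate a solvable
linear group is less than half of the space.
-/
import Cfsg.Agent.Lib.FGS.FixedHalf.Perm
import Cfsg.Agent.Lib.FGS.FixedHalf.Ratio
import Cfsg.Agent.Lib.FGS.FixedHalf.Symplectic
import Cfsg.Agent.Lib.FGS.FreeOverComplement
import Cfsg.Agent.Lib.PGroup.Basic

set_option autoImplicit false

namespace CfsgLib.FGS.FixedHalf

open Module
open scoped commutatorElement

variable {G : Type*} [Group G] [Finite G]

/-- A minimal noncentral normal subgroup of a solvable group: an `r`-group with central derived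
subgroup and central `r`-th powers. -/
theorem exists_minimal_noncentral [Group.IsSolvable G] (hG : Subgroup.center G ≠ ⊤) :
    ∃ (R : Subgroup G) (r : ℕ), r.Prime ∧ R.Normal ∧ ¬ R ≤ Subgroup.center G ∧ IsPGroup r R ∧
      (∀ N : Subgroup G, N.Normal → N ≤ R → N = R ∨ N ≤ Subgroup.center G) ∧
      (∀ x ∈ R, ∀ y ∈ R, ⁅x, y⁆ ∈ Subgroup.center G) ∧ ∀ x ∈ R, x ^ r ∈ Subgroup.center G := by
  classical
  obtain ⟨R, ⟨hRn, hRc⟩, hmin⟩ := Set.exists_min_image {N : Subgroup G | N.Normal ∧ ¬ N ≤ Subgroup.center G}
    (fun N => Nat.card N) (Set.toFinite _) ⟨⊤, inferInstance, fun h => hG (top_le_iff.1 h)⟩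
  have hmin' : ∀ N : Subgroup G, N.Normal → N ≤ R → N = R ∨ N ≤ Subgroup.center G := fun N hN hle =>
    or_iff_not_imp_right.2 fun hc => Subgroup.eq_of_le_of_card_ge hle (hmin N ⟨hN, hc⟩)
  haveI := hRn
  -- a proper characteristic subgroup is central
  have hchar : ∀ H : Subgroup R, H.Characteristic → H ≠ ⊤ → ∀ x ∈ H, (x : G) ∈ Subgroup.center G := by
    intro H hH hne x hx
    rcases hmin' (H.map R.subtype) inferInstance (Subgroup.map_subtype_le H) with h | h
    · exact absurd (Subgroup.map_injective R.subtype_injective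
        (h.trans (by rw [← MonoidHom.range_eq_map, Subgroup.range_subtype]))) hne
    · exact h (Subgroup.mem_map_of_mem _ hx)
  have : Nontrivial R := by
    rw [← not_subsingleton_iff_nontrivial]
    intro h
    exact hRc fun x hx => by
      rw [show x = 1 from congrArg Subtype.val (Subsingleton.elim (⟨x, hx⟩ : R) 1)]
      exact one_mem _
  have hcomm : ∀ x ∈ R, ∀ y ∈ R, ⁅x, y⁆ ∈ Subgroup.center G := fun x hx y hy =>
    hchar (commutator R) inferInstance (Group.IsSolvable.commutator_lt_top_of_nontrivial R).ne ⁅⟨x, hx⟩, ⟨y, hy⟩⁆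
      (Subgroup.commutator_mem_commutator (Subgroup.mem_top _) (Subgroup.mem_top _))
  have hnil : Group.IsNilpotent R := by
    have hle : commutator R ≤ Subgroup.center R := by
      rw [commutator_def, Subgroup.commutator_le]
      intro x _ y _
      exact Subgroup.mem_center_iff.2 fun z =>
        Subtype.ext (Subgroup.mem_center_iff.1 (hcomm x x.2 y y.2) z)
    have hcq : ∀ a b : R ⧸ Subgroup.center R, a * b = b * a := by
      intro a b
      induction a using QuotientGroup.induction_on with
      | _ u =>
        induction b using QuotientGroup.induction_on with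
        | _ v =>
          rw [← commutatorElement_eq_one_iff_mul_comm]
          exact (QuotientGroup.eq_one_iff _).2
            (hle (Subgroup.commutator_mem_commutator (Subgroup.mem_top u) (Subgroup.mem_top v)))
    letI : CommGroup (R ⧸ Subgroup.center R) := { mul_comm := hcq }
    exact Group.of_quotient_center_nilpotent inferInstance
  obtain ⟨r, hr, hnc⟩ : ∃ r, r.Prime ∧ ∃ P : Sylow r R, ∃ x ∈ P, (x : G) ∉ Subgroup.center G := by
    by_contra hall
    push Not at hall
    apply hRc
    set Z := (Subgroup.center G).subgroupOf R with hZ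
    have hd : Nat.card R ∣ Nat.card Z := by
      refine (Nat.factorization_le_iff_dvd Nat.card_pos.ne' Nat.card_pos.ne').1 fun r => ?_
      by_cases hr : r.Prime
      · haveI := Fact.mk hr
        obtain ⟨P⟩ : Nonempty (Sylow r R) := inferInstance
        have h1 : Nat.card P ∣ Nat.card Z := Subgroup.card_dvd_of_le fun x hx => hall r hr P x hx
        rw [P.card_eq_multiplicity] at h1
        exact (hr.pow_dvd_iff_le_factorization Nat.card_pos.ne').1 h1
      · rw [Nat.factorization_eq_zero_of_not_prime _ hr]
        exact Nat.zero_le _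
    have htop : Z = ⊤ := Subgroup.eq_top_of_card_eq Z (Nat.dvd_antisymm (Subgroup.card_subgroup_dvd_card Z) hd)
    intro x hx
    exact (show (⟨x, hx⟩ : R) ∈ Z by rw [htop]; exact Subgroup.mem_top _)
  obtain ⟨P, x, hxP, hx⟩ := hnc
  haveI := Fact.mk hr
  have hPn : (P : Subgroup R).Normal := by
    have := ((Group.isNilpotent_of_finite_tfae (G := R)).out 0 3 rfl rfl).1 hnil r inferInstance P
    exact this
  have hPtop : (P : Subgroup R) = ⊤ := by
    by_contra h
    exact hx (hchar _ (P.characteristic_of_normal hPn) h x hxP)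
  have hRr : IsPGroup r R := (hPtop ▸ P.isPGroup').of_equiv Subgroup.topEquiv
  exact ⟨R, r, hr, hRn, hRc, hRr, hmin', hcomm, fun x hx =>
    hchar (frattini R) inferInstance (CfsgLib.PGroup.frattini_ne_top hRr) _
      (CfsgLib.PGroup.pow_mem_frattini hRr ⟨x, hx⟩)⟩

section Scalar

variable {L : Type*} [Field L] {W : Type*} [AddCommGroup W] [Module L W]

/-- Conjugation in the endomorphism algebra. -/
def conjEnd (σ : G →* Module.End L W) : G →* Module.End L (Module.End L W) where
  toFun u := LinearMap.mulLeft L (σ u) * LinearMap.mulRight L (σ u⁻¹)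
  map_one' := by ext X v; simp
  map_mul' u v := by ext X w; simp [mul_assoc]

omit [Finite G] in
theorem conjEnd_apply (σ : G →* Module.End L W) (u : G) (X : Module.End L W) :
    conjEnd σ u X = σ u * (X * σ u⁻¹) := rfl

omit [Finite G] in
theorem conjEnd_mul (σ : G →* Module.End L W) (u : G) (X Y : Module.End L W) :
    conjEnd σ u (X * Y) = conjEnd σ u X * conjEnd σ u Y := by
  simp only [conjEnd_apply]
  rw [mul_assoc (σ u), mul_assoc X (σ u⁻¹), ← mul_assoc (σ u⁻¹) (σ u), ← map_mul, inv_mul_cancel, map_one,
    one_mul, mul_assoc X Y]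

omit [Finite G] in
theorem eq_one_of_trivial (σ : G →* Module.End L W)
    (hN : ∀ N : Subgroup G, N.Normal → N ≠ ⊥ → ∀ w : W, (∀ x ∈ N, σ x w = w) → w = 0) [Nontrivial W]
    {x : G} (hx : σ x = 1) : x = 1 := by
  have hk : σ.ker = ⊥ := by
    by_contra h
    obtain ⟨w, hw⟩ := exists_ne (0 : W)
    exact hw (hN _ inferInstance h w fun y hy => by rw [MonoidHom.mem_ker.1 hy, Module.End.one_apply])
  have := MonoidHom.mem_ker.2 hx
  rwa [hk, Subgroup.mem_bot] at this

variable [IsAlgClosed L] [FiniteDimensional L W]

set_option maxHeartbeats 1000000 in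
/-- The case of a scalar centre. -/
theorem scalar_case {ℓ : ℕ} [hℓ : Fact ℓ.Prime] [CharP L ℓ] [Group.IsSolvable G]
    (σ : G →* Module.End L W)
    (hN : ∀ N : Subgroup G, N.Normal → N ≠ ⊥ → ∀ w : W, (∀ x ∈ N, σ x w = w) → w = 0)
    (hsc : ∀ z ∈ Subgroup.center G, ∃ a : L, σ z = a • (1 : Module.End L W))
    {g : G} {p : ℕ} [hp : Fact p.Prime] (hp5 : 5 ≤ p) (hg : orderOf g = p)
    (hgen : Subgroup.normalClosure ({g} : Set G) = ⊤) [hW : Nontrivial W] :
    2 * finrank L ↥(LinearMap.ker (σ g - 1)) < finrank L W := by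
  classical
  have hinj : ∀ {x : G}, σ x = 1 → x = 1 := fun h => eq_one_of_trivial σ hN h
  have hg1 : g ≠ 1 := fun e => by rw [e, orderOf_one] at hg; omega
  by_cases hG : Subgroup.center G = ⊤
  · obtain ⟨a, ha⟩ := hsc g (hG ▸ Subgroup.mem_top g)
    have ha1 : a ≠ 1 := fun e => hg1 (hinj (by rw [ha, e, one_smul]))
    have hker : LinearMap.ker (σ g - 1) = ⊥ := by
      rw [LinearMap.ker_eq_bot']
      intro w hw
      rw [LinearMap.sub_apply, Module.End.one_apply, ha, LinearMap.smul_apply, Module.End.one_apply] at hw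
      by_contra h
      exact ha1 (smul_left_injective L h (by simpa [sub_eq_zero] using hw))
    rw [hker, finrank_bot, mul_zero]
    exact Module.finrank_pos
  obtain ⟨R, r, hr, hRn, hRc, hRr, hmin, hcomm, hpow⟩ := exists_minimal_noncentral (G := G) hG
  haveI := hRn
  haveI := Fact.mk hr
  have hrℓ : r ≠ ℓ := by
    intro e
    subst e
    obtain ⟨w, hw0, hw⟩ := CfsgLib.FGS.FreeCompl.exists_fixed_of_pGroup (k := L) hRr (σ.comp R.subtype)
    exact hw0 (hN R hRn (fun h => hRc (h ▸ bot_le)) w fun x hx => hw ⟨x, hx⟩)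
  set N := Nat.card R with hNR
  have hNL : (N : L) ≠ 0 := by
    obtain ⟨j, hj⟩ := hRr.exists_card_eq
    rw [hNR, hj, Ne, CharP.cast_eq_zero_iff L ℓ]
    exact fun h => hrℓ ((Nat.prime_dvd_prime_iff_eq hℓ.out hr).1 (hℓ.out.dvd_of_dvd_pow h)).symm
  have hxN : ∀ x : R, (x : G) ^ N = 1 := fun x => congrArg Subtype.val (pow_card_eq_one' : x ^ N = 1)
  set c := finrank L ↥(LinearMap.ker (σ g - 1)) with hc
  set n := finrank L W with hn
  by_cases hab : ∀ x ∈ R, ∀ y ∈ R, x * y = y * x
  · -- `R` abelian: `G` permutes the weight spaces without fixed points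
    let f : R → Module.End L W := fun x => σ x
    have hfc : ∀ x y, Commute (f x) (f y) := fun x y => by
      change σ x * σ y = σ y * σ x
      rw [← map_mul, ← map_mul, hab x x.2 y y.2]
    have hfN : ∀ x, f x ^ N = 1 := fun x => by rw [← map_pow, hxN, map_one]
    let E : (R → L) → Submodule L W := fun χ => ⨅ x, (f x).eigenspace (χ x)
    have hmem : ∀ {χ : R → L} {w : W}, w ∈ E χ ↔ ∀ x : R, σ (x : G) w = χ x • w := by
      intro χ w
      simp [E, f, Submodule.mem_iInf, Module.End.mem_eigenspace_iff]
    let cc : G → R → R := fun u x => ⟨u⁻¹ * x * u, by simpa using hRn.conj_mem x x.2 u⁻¹⟩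
    have hmap : ∀ (u : G) (χ : R → L), ∀ w ∈ E χ, σ u w ∈ E (fun x => χ (cc u x)) := by
      intro u χ w hw
      rw [hmem] at hw ⊢
      intro x
      have := hw (cc u x)
      calc σ (x : G) (σ u w) = σ u (σ (u⁻¹ * x * u) w) := by
            rw [← Module.End.mul_apply, ← Module.End.mul_apply, ← map_mul, ← map_mul]; group
        _ = _ := by rw [show σ (u⁻¹ * (x : G) * u) w = _ from this, map_smul]
    have hne : ∀ (u : G) (χ : R → L), E χ ≠ ⊥ → E (fun x => χ (cc u x)) ≠ ⊥ := by
      intro u χ hχ
      obtain ⟨w, hw, hw0⟩ := Submodule.exists_mem_ne_zero_of_ne_bot hχ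
      refine fun h => hw0 ?_
      have := hmap u χ w hw
      rw [h, Submodule.mem_bot] at this
      have h2 : σ (u⁻¹ * u) w = 0 := by rw [map_mul, Module.End.mul_apply, this, map_zero]
      simpa using h2
    let ι := {χ : R → L // E χ ≠ ⊥}
    have hind := iSupIndep_eigen f hfc
    letI : Fintype ι := hind.fintypeNeBotOfFiniteDimensional
    let U : ι → Submodule L W := fun i => E i.1
    have hUind : iSupIndep U := hind.comp Subtype.val_injective
    have hUtop : ⨆ i, U i = ⊤ := by
      rw [eq_top_iff, ← iSup_eigen_eq_top f hfc hNL hfN]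
      refine iSup_le fun χ => ?_
      by_cases h : E χ = ⊥
      · exact h.le.trans bot_le
      · exact le_iSup U ⟨χ, h⟩
    letI : MulAction G ι :=
      { smul := fun u i => ⟨fun x => i.1 (cc u x), hne u i.1 i.2⟩
        one_smul := fun i => Subtype.ext (funext fun x => congrArg i.1 (Subtype.ext (by simp [cc])))
        mul_smul := fun u v i => Subtype.ext (funext fun x => congrArg i.1 (Subtype.ext (by simp [cc, mul_assoc]))) }
    have hUmap : ∀ (u : G) (i : ι), ∀ w ∈ U i, σ u w ∈ U (u • i) := fun u i w hw => hmap u i.1 w hw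
    have hσinj : ∀ u : G, Function.Injective (σ u) := fun u v w h => by
      have e : σ u⁻¹ (σ u v) = σ u⁻¹ (σ u w) := by rw [h]
      simpa [← Module.End.mul_apply, ← map_mul] using e
    have hdim : ∀ (u : G) (i : ι), finrank L (U (u • i)) = finrank L (U i) := by
      have hle : ∀ (u : G) (i : ι), finrank L (U i) ≤ finrank L (U (u • i)) := fun u i =>
        LinearMap.finrank_le_finrank_of_injective (f := (σ u).restrict (hUmap u i))
          fun a b h => Subtype.ext (hσinj u (congrArg Subtype.val h))
      intro u i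
      refine le_antisymm ?_ (hle u i)
      have := hle u⁻¹ (u • i)
      rwa [inv_smul_smul] at this
    have hnofix : ∀ i : ι, ∃ u : G, u • i ≠ i := by
      by_contra h
      push Not at h
      obtain ⟨i, hi⟩ := h
      obtain ⟨w, hw, hw0⟩ := Submodule.exists_mem_ne_zero_of_ne_bot i.2
      apply hw0
      refine hN ⁅(⊤ : Subgroup G), R⁆ inferInstance ?_ w ?_
      · intro hbot
        exact hRc fun x hx => Subgroup.mem_center_iff.2 fun u => by
          rw [← commutatorElement_eq_one_iff_mul_comm]
          exact (Subgroup.eq_bot_iff_forall _).1 hbot _ (Subgroup.commutator_mem_commutator (Subgroup.mem_top u) hx)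
      let S : Subgroup G :=
        { carrier := {x | σ x w = w}
          one_mem' := by simp
          mul_mem' := fun {x y} (hx : σ x w = w) (hy : σ y w = w) => by
            show σ (x * y) w = w; rw [map_mul, Module.End.mul_apply, hy, hx]
          inv_mem' := fun {x} (hx : σ x w = w) => by
            show σ x⁻¹ w = w
            conv_lhs => rw [← hx]
            rw [← Module.End.mul_apply, ← map_mul, inv_mul_cancel, map_one, Module.End.one_apply] }
      suffices hS : ⁅(⊤ : Subgroup G), R⁆ ≤ S from fun x hx => hS hx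
      rw [Subgroup.commutator_le]
      intro u _ x hx
      change σ ⁅u, x⁆ w = w
      have hw' : ∀ y : R, σ (y : G) w = i.1 y • w := hmem.1 hw
      have hux : u * x * u⁻¹ ∈ R := hRn.conj_mem x hx u
      have e : i.1 ⟨u * x * u⁻¹, hux⟩ = i.1 ⟨x, hx⟩ := by
        have := congrFun (congrArg Subtype.val (hi u)) ⟨u * x * u⁻¹, hux⟩
        rw [← this]
        exact congrArg i.1 (Subtype.ext (by simp [cc]; group))
      have hx' := hw' ⟨x⁻¹, inv_mem hx⟩
      rw [commutatorElement_def, map_mul, Module.End.mul_apply, hx', map_smul, hw' ⟨_, hux⟩, e, smul_smul]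
      have h1 : σ (x⁻¹ * x) w = (i.1 ⟨x⁻¹, inv_mem hx⟩ * i.1 ⟨x, hx⟩) • w := by
        rw [map_mul, Module.End.mul_apply, hw' ⟨x, hx⟩, map_smul, hx', smul_smul, mul_comm]
      rw [← h1, inv_mul_cancel, map_one, Module.End.one_apply]
    have hfive : 5 * ∑ i ∈ Finset.univ.filter (fun i : ι => g • i = i), finrank L (U i) ≤
        ∑ i : ι, finrank L (U i) := by
      rw [← Finset.sum_fiberwise (Finset.univ : Finset ι) (fun i => (Quotient.mk'' i : MulAction.orbitRel.Quotient G ι)),
        ← Finset.sum_fiberwise (Finset.univ.filter fun i : ι => g • i = i)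
          (fun i => (Quotient.mk'' i : MulAction.orbitRel.Quotient G ι)), Finset.mul_sum]
      refine Finset.sum_le_sum fun q _ => ?_
      obtain ⟨i₀, rfl⟩ := Quotient.mk''_surjective q
      have hq : ∀ i : ι, (Quotient.mk'' i : MulAction.orbitRel.Quotient G ι) = Quotient.mk'' i₀ ↔
          i ∈ MulAction.orbit G i₀ := fun i => Quotient.eq''.trans MulAction.orbitRel_apply
      have hd : ∀ i ∈ MulAction.orbit G i₀, finrank L (U i) = finrank L (U i₀) := by
        rintro _ ⟨u, rfl⟩
        exact hdim u i₀
      rw [Finset.sum_congr rfl (fun i hi => hd i ((hq i).1 (Finset.mem_filter.1 hi).2)),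
        Finset.sum_congr rfl (fun i hi => hd i ((hq i).1 (Finset.mem_filter.1 hi).2)), Finset.sum_const,
        Finset.sum_const, smul_eq_mul, smul_eq_mul, ← mul_assoc]
      refine Nat.mul_le_mul_right _ ?_
      have h1 : 1 < Nat.card (MulAction.orbit G i₀) := by
        obtain ⟨u, hu⟩ := hnofix i₀
        rw [Finite.one_lt_card_iff_nontrivial]
        exact ⟨⟨i₀, MulAction.mem_orbit_self _⟩, ⟨u • i₀, MulAction.mem_orbit _ u⟩,
          fun e => hu (congrArg Subtype.val e).symm⟩
      have h5 := five_mul_fixed_le h1 hp5 hg hgen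
      refine le_trans (le_of_eq ?_) (h5.trans (le_of_eq ?_))
      · congr 1
        rw [Finset.filter_filter, ← Nat.card_eq_finsetCard]
        refine Nat.card_congr
          { toFun := fun i => ⟨⟨i.1, (hq i.1).1 (Finset.mem_filter.1 i.2).2.2⟩,
              Subtype.ext (Finset.mem_filter.1 i.2).2.1⟩
            invFun := fun i => ⟨i.1.1, Finset.mem_filter.2 ⟨Finset.mem_univ _,
              congrArg Subtype.val i.2, (hq _).2 i.1.2⟩⟩
            left_inv := fun i => rfl
            right_inv := fun i => rfl }
      · rw [← Nat.card_eq_finsetCard]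
        exact Nat.card_congr (Equiv.subtypeEquivRight fun i => by simp [hq])
    have hperm := perm_bound U hUind hUtop hp.out (MulAction.toPermHom G ι g)
      (by rw [← map_pow, ← hg, pow_orderOf_eq_one, map_one]) (σ g) (fun i w hw => hUmap g i w hw)
      (by rw [← map_pow, ← hg, pow_orderOf_eq_one, map_one])
    have htot : ∑ i : ι, finrank L (U i) = n := by
      have hint : DirectSum.IsInternal U :=
        (DirectSum.isInternal_submodule_iff_iSupIndep_and_iSup_eq_top U).2 ⟨hUind, hUtop⟩
      rw [hn, ← (LinearEquiv.ofBijective (DirectSum.coeLinearMap U) hint).finrank_eq,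
        Module.finrank_directSum]
    rw [← hc] at hperm
    simp only [MulAction.toPermHom_apply, MulAction.toPerm_apply] at hperm
    rw [Finset.sum_ite, ← Finset.mul_sum] at hperm
    have hsplit := Finset.sum_filter_add_sum_filter_not (Finset.univ : Finset ι) (fun i => g • i = i)
      (fun i => finrank L (U i))
    set F := ∑ i ∈ Finset.univ.filter (fun i : ι => g • i = i), finrank L (U i)
    set F' := ∑ i ∈ Finset.univ.filter (fun i : ι => ¬ g • i = i), finrank L (U i)
    rw [htot] at hfive hsplit
    have hnpos : 0 < n := Module.finrank_pos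
    obtain ⟨p', rfl⟩ := Nat.exists_eq_add_of_le hp5
    by_contra hlt
    push Not at hlt
    nlinarith [hperm, hsplit, hfive, hlt, hnpos, Nat.mul_le_mul_left (5 + p') hlt,
      Nat.mul_le_mul_left (4 + p') hfive, Nat.zero_le (n * p')]
  -- `R` nonabelian
  have hZR : ∀ x : R, x ∈ Subgroup.center R ↔ (x : G) ∈ Subgroup.center G := by
    intro x
    refine ⟨fun hx => ?_, fun hx => Subgroup.mem_center_iff.2 fun y =>
      Subtype.ext (Subgroup.mem_center_iff.1 hx y)⟩
    rcases hmin ((Subgroup.center R).map R.subtype) inferInstance (Subgroup.map_subtype_le _) with h | h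
    · exfalso
      apply hab
      intro a ha b hb
      have hb' : b ∈ (Subgroup.center R).map R.subtype := h.symm ▸ hb
      obtain ⟨b', hb', rfl⟩ := hb'
      exact congrArg Subtype.val (Subgroup.mem_center_iff.1 hb' ⟨a, ha⟩)
    · exact h (Subgroup.mem_map_of_mem _ hx)
  have hcentral : ∀ x : R, ∀ y : R, (⁅(x : G), (y : G)⁆) ∈ Subgroup.center G := fun x y => hcomm x x.2 y y.2
  let M := R ⧸ Subgroup.center R
  letI : CommGroup M :=
    { mul_comm := fun a b => by
        induction a using QuotientGroup.induction_on with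
        | _ u =>
          induction b using QuotientGroup.induction_on with
          | _ v =>
            rw [← commutatorElement_eq_one_iff_mul_comm]
            exact (QuotientGroup.eq_one_iff _).2 ((hZR _).2 (hcentral u v)) }
  let mk : R →* M := QuotientGroup.mk' (Subgroup.center R)
  have hmk : ∀ u, mk u = 1 ↔ u ∈ Subgroup.center R := fun u => QuotientGroup.eq_one_iff u
  have hmksurj : Function.Surjective mk := QuotientGroup.mk'_surjective _
  have hMr : ∀ x : M, x ^ r = 1 := by
    intro x
    obtain ⟨u, rfl⟩ := hmksurj x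
    rw [← map_pow, hmk, hZR]
    exact hpow u u.2
  -- the central character
  choose θ hθ using fun z : Subgroup.center G => hsc z z.2
  have hθmul : ∀ z z', θ (z * z') = θ z * θ z' := by
    intro z z'
    obtain ⟨w, hw⟩ := exists_ne (0 : W)
    apply smul_left_injective L hw
    have := hθ (z * z')
    rw [Subgroup.coe_mul, map_mul, hθ, hθ] at this
    have h2 := LinearMap.congr_fun this w
    simpa [smul_smul, mul_comm] using h2.symm
  have hθinj : ∀ z, θ z = 1 → z = 1 := fun z h => Subtype.ext (hinj (by rw [hθ, h, one_smul]))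
  have hθ1 : θ 1 = 1 := by
    obtain ⟨w, hw⟩ := exists_ne (0 : W)
    apply smul_left_injective L hw
    simpa using (LinearMap.congr_fun (hθ 1) w).symm
  have hθne : ∀ z, θ z ≠ 0 := fun z h => by
    have := hθmul z z⁻¹
    rw [h, zero_mul, mul_inv_cancel, hθ1] at this
    exact one_ne_zero this
  -- the pairing
  let b : M → M → L := fun x y => θ ⟨⁅((x.out : R) : G), ((y.out : R) : G)⁆, hcentral _ _⟩
  have hrep : ∀ u v : R, b (mk u) (mk v) = θ ⟨⁅(u : G), (v : G)⁆, hcentral _ _⟩ := by
    intro u v
    change θ _ = θ _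
    congr 1
    apply Subtype.ext
    change ⁅((mk u).out : G), ((mk v).out : G)⁆ = _
    have key : ∀ u : R, ∃ z ∈ Subgroup.center G, ((mk u).out : G) = u * z := by
      intro u
      obtain ⟨z, hz⟩ := QuotientGroup.mk_out_eq_mul (Subgroup.center R) u
      exact ⟨((z : R) : G), (hZR _).1 z.2, congrArg Subtype.val hz⟩
    obtain ⟨z, hz, e⟩ := key u
    obtain ⟨z', hz', e'⟩ := key v
    rw [e, e', CfsgLib.PGroup.comm_mul_left (by
        rw [show ⁅z, (v : G) * z'⁆ = 1 from commutatorElement_eq_one_iff_mul_comm.2
          (Subgroup.mem_center_iff.1 hz _).symm]; exact one_mem _),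
      show ⁅z, (v : G) * z'⁆ = 1 from commutatorElement_eq_one_iff_mul_comm.2
          (Subgroup.mem_center_iff.1 hz _).symm, mul_one,
      CfsgLib.PGroup.comm_mul_right (by
        rw [show ⁅(u : G), z'⁆ = 1 from commutatorElement_eq_one_iff_mul_comm.2
          (Subgroup.mem_center_iff.1 hz' _)]; exact one_mem _),
      show ⁅(u : G), z'⁆ = 1 from commutatorElement_eq_one_iff_mul_comm.2
          (Subgroup.mem_center_iff.1 hz' _), mul_one]
  have hb : IsAltPairing b := by
    refine ⟨fun x y => hθne _, fun x y z => ?_, fun x y z => ?_, fun x => ?_, fun x hx => ?_⟩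
    · obtain ⟨u, rfl⟩ := hmksurj x
      obtain ⟨v, rfl⟩ := hmksurj y
      obtain ⟨w, rfl⟩ := hmksurj z
      rw [← map_mul, hrep, hrep, hrep, ← hθmul]
      exact congrArg θ (Subtype.ext (CfsgLib.PGroup.comm_mul_left (hcentral v w)))
    · obtain ⟨u, rfl⟩ := hmksurj x
      obtain ⟨v, rfl⟩ := hmksurj y
      obtain ⟨w, rfl⟩ := hmksurj z
      rw [← map_mul, hrep, hrep, hrep, ← hθmul]
      exact congrArg θ (Subtype.ext (CfsgLib.PGroup.comm_mul_right (hcentral u w)))
    · obtain ⟨u, rfl⟩ := hmksurj x
      rw [hrep, ← hθ1]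
      exact congrArg θ (Subtype.ext (commutatorElement_self _))
    · obtain ⟨u, rfl⟩ := hmksurj x
      rw [hmk, Subgroup.mem_center_iff]
      intro v
      have h1 := hx (mk v)
      rw [hrep] at h1
      exact Subtype.ext (commutatorElement_eq_one_iff_mul_comm.1 (congrArg Subtype.val (hθinj _ h1))).symm
  let a : G →* MulAut M := MonoidHom.mk'
    (fun u => QuotientGroup.congr _ _ (MulAut.conjNormal u) (Subgroup.characteristic_iff_map_eq.1 inferInstance _))
    (fun u v => MulEquiv.ext fun x => by
      induction x using QuotientGroup.induction_on with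
      | _ w => simp [MulAut.mul_apply]; rfl)
  have ha : ∀ u w, a u (mk w) = mk (MulAut.conjNormal u w) := fun u w => rfl
  have hinv : ∀ u x y, b (a u x) (a u y) = b x y := by
    intro u x y
    obtain ⟨v, rfl⟩ := hmksurj x
    obtain ⟨w, rfl⟩ := hmksurj y
    rw [ha, ha, hrep, hrep]
    refine congrArg θ (Subtype.ext ?_)
    change ⁅((MulAut.conjNormal u v : R) : G), ((MulAut.conjNormal u w : R) : G)⁆ = _
    rw [MulAut.conjNormal_apply, MulAut.conjNormal_apply, ← MulAut.conj_apply, ← MulAut.conj_apply,
      ← map_commutatorElement, MulAut.conj_apply, Subgroup.mem_center_iff.1 (hcentral v w) u,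
      mul_inv_cancel_right]
  have hirr : ∀ D : Subgroup M, (∀ u, ∀ x ∈ D, a u x ∈ D) → D = ⊥ ∨ D = ⊤ := by
    intro D hD
    have hn' : ((D.comap mk).map R.subtype).Normal := ⟨by
      rintro _ ⟨w, hw, rfl⟩ u
      exact ⟨MulAut.conjNormal u w, by rw [SetLike.mem_coe, Subgroup.mem_comap, ← ha]; exact hD u _ hw, MulAut.conjNormal_apply u w⟩⟩
    rcases hmin _ hn' (Subgroup.map_subtype_le _) with h | h
    · right
      rw [eq_top_iff]
      intro x _
      obtain ⟨w, rfl⟩ := hmksurj x
      have hw : (w : G) ∈ (D.comap mk).map R.subtype := h.symm ▸ w.2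
      obtain ⟨w', hw', e⟩ := hw
      rwa [← R.subtype_injective e]
    · left
      rw [Subgroup.eq_bot_iff_forall]
      intro x hx
      obtain ⟨w, rfl⟩ := hmksurj x
      exact (hmk w).2 ((hZR w).2 (h ⟨w, hx, rfl⟩))
  have hag : a g ≠ 1 := by
    intro h
    have hker : a.ker = ⊤ := top_le_iff.1 (hgen ▸ Subgroup.normalClosure_le_normal (by simpa using h))
    have hcyc : IsCyclic M := by
      rcases subsingleton_or_nontrivial M with hM | hM
      · exact isCyclic_of_subsingleton
      obtain ⟨x, hx⟩ := exists_ne (1 : M)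
      refine ⟨x, fun y => ?_⟩
      rcases hirr (Subgroup.zpowers x) (fun u y hy => by
          rwa [MonoidHom.mem_ker.1 (show u ∈ a.ker by rw [hker]; exact Subgroup.mem_top u)]) with h | h
      · exact absurd (Subgroup.zpowers_eq_bot.1 h) hx
      · exact (show y ∈ Subgroup.zpowers x by rw [h]; exact Subgroup.mem_top y)
    apply hab
    intro x hx y hy
    exact congrArg Subtype.val
      (commutative_of_cyclic_center_quotient mk (QuotientGroup.ker_mk' _).le (⟨x, hx⟩ : R) ⟨y, hy⟩)
  have hsym := fixed_bound hb hMr a hinv hirr hp5 hg hgen hag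
  -- weights of `R` on the endomorphism algebra
  let τ := conjEnd σ
  have hτz : ∀ z ∈ Subgroup.center G, τ z = 1 := by
    intro z hz
    obtain ⟨s, hs⟩ := hsc z hz
    refine LinearMap.ext fun X => ?_
    rw [conjEnd_apply, hs, ← mul_assoc, smul_mul_assoc, one_mul, ← mul_smul_one s X, ← hs, mul_assoc, ← map_mul,
      mul_inv_cancel, map_one, mul_one, Module.End.one_apply]
  let f : R → Module.End L (Module.End L W) := fun y => τ (y : G)
  have hfc : ∀ x y, Commute (f x) (f y) := fun x y => by
    change τ x * τ y = τ y * τ x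
    have e : (x : G) * y = ⁅(x : G), (y : G)⁆ * (y * x) := by rw [commutatorElement_def]; group
    rw [← map_mul, ← map_mul, e, map_mul, hτz _ (hcentral x y), one_mul]
  have hfN : ∀ x, f x ^ N = 1 := fun x => by rw [← map_pow, hxN, map_one]
  let E : (R → L) → Submodule L (Module.End L W) := fun χ => ⨅ x, (f x).eigenspace (χ x)
  have hmem : ∀ {χ : R → L} {X : Module.End L W}, X ∈ E χ ↔ ∀ y : R, τ (y : G) X = χ y • X := by
    intro χ X
    simp [E, f, Submodule.mem_iInf, Module.End.mem_eigenspace_iff]
  let wt : M → R → L := fun m y => b (mk y) m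
  have hσunit : ∀ u : G, σ u * σ u⁻¹ = 1 := fun u => by rw [← map_mul, mul_inv_cancel, map_one]
  have hσmem : ∀ x : R, σ (x : G) ∈ E (wt (mk x)) := by
    intro x
    rw [hmem]
    intro y
    rw [conjEnd_apply, ← map_mul, ← map_mul,
      show (y : G) * (x * (y : G)⁻¹) = ⁅(y : G), (x : G)⁆ * x by rw [commutatorElement_def]; group, map_mul,
      show wt (mk x) y = _ from hrep y x, show σ ⁅(y : G), (x : G)⁆ = _ from hθ ⟨_, hcentral y x⟩,
      smul_mul_assoc, one_mul]
  have hwtinj : Function.Injective wt := by
    intro m m' h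
    have e : ∀ y, b y m = b y m' := fun y => by
      obtain ⟨u, rfl⟩ := hmksurj y
      exact congrFun h u
    rw [← mul_inv_eq_one]
    refine hb.nondeg _ fun y => hb.skew ?_
    rw [hb.mul_right, e, ← hb.mul_right, mul_inv_cancel]
    exact hb.skew (hb.one_left y)
  -- every character of `M` is a weight
  haveI : Fintype M := Fintype.ofFinite M
  let bhom : M → M →* L := fun m =>
    { toFun := fun y => b y m, map_one' := hb.one_left m, map_mul' := fun y y' => hb.mul_left y y' m }
  have hbhom : Function.Surjective bhom := by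
    have hli := linearIndependent_monoidHom M L
    have : Finite (M →* L) := hli.finite
    haveI : Fintype (M →* L) := Fintype.ofFinite _
    have hle : Fintype.card (M →* L) ≤ Fintype.card M := by
      have := hli.fintype_card_le_finrank
      rwa [Module.finrank_pi] at this
    have hinjb : Function.Injective bhom := fun m m' h => hwtinj (funext fun y => DFunLike.congr_fun h (mk y))
    exact ((Fintype.bijective_iff_injective_and_card bhom).2
      ⟨hinjb, le_antisymm (Fintype.card_le_of_injective bhom hinjb) hle⟩).2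
  have hwt : ∀ χ, E χ ≠ ⊥ → ∃ m, wt m = χ := by
    intro χ hχ
    obtain ⟨X, hX, hX0⟩ := Submodule.exists_mem_ne_zero_of_ne_bot hχ
    rw [hmem] at hX
    have hmul : ∀ y y' : R, χ (y * y') = χ y * χ y' := fun y y' => by
      apply smul_left_injective L hX0
      change χ (y * y') • X = (χ y * χ y') • X
      rw [← hX, Subgroup.coe_mul, map_mul, Module.End.mul_apply, hX, map_smul, hX, smul_smul, mul_comm]
    have hcen : ∀ z : R, z ∈ Subgroup.center R → χ z = 1 := fun z hz => by
      apply smul_left_injective L hX0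
      change χ z • X = (1 : L) • X
      rw [← hX, hτz _ ((hZR z).1 hz), Module.End.one_apply, one_smul]
    let χ' : R →* L := { toFun := χ, map_one' := hcen 1 (one_mem _), map_mul' := hmul }
    have hle : Subgroup.center R ≤ χ'.ker := fun z hz => hcen z hz
    obtain ⟨m, hm⟩ := hbhom (QuotientGroup.lift (Subgroup.center R) χ' hle)
    exact ⟨m, funext fun y => DFunLike.congr_fun hm (mk y)⟩
  let U : M → Submodule L (Module.End L W) := fun m => E (wt m)
  have hUind : iSupIndep U := (iSupIndep_eigen f hfc).comp hwtinj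
  have hUtop : ⨆ m, U m = ⊤ := by
    rw [eq_top_iff, ← iSup_eigen_eq_top f hfc hNL hfN]
    refine iSup_le fun χ => ?_
    by_cases h : E χ = ⊥
    · exact h.le.trans bot_le
    · obtain ⟨m, rfl⟩ := hwt χ h
      exact le_iSup U m
  have hright : ∀ (x : R) (m : M), ∀ X ∈ U m, X * σ (x : G) ∈ U (m * mk x) := by
    intro x m X hX
    rw [hmem] at hX ⊢
    intro y
    rw [conjEnd_mul, hX, hmem.1 (hσmem x) y, smul_mul_assoc, mul_smul_comm, smul_smul]
    change _ = b (mk y) (m * mk x) • _
    rw [hb.mul_right]
  have hdim : ∀ m, finrank L (U m) = finrank L (U 1) := by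
    have hle : ∀ (x : R) (m : M), finrank L (U m) ≤ finrank L (U (m * mk x)) := fun x m =>
      LinearMap.finrank_le_finrank_of_injective (f := (LinearMap.mulRight L (σ (x : G))).restrict (hright x m))
        fun X Y h => Subtype.ext (by
          have e : (X : Module.End L W) * σ (x : G) * σ (x : G)⁻¹ = (Y : Module.End L W) * σ (x : G) * σ (x : G)⁻¹ :=
            congrArg (fun Z : ↥(U (m * mk x)) => (Z : Module.End L W) * σ (x : G)⁻¹) h
          rw [mul_assoc, hσunit, mul_one, mul_assoc, hσunit, mul_one] at e
          exact e)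
    intro m
    obtain ⟨x, rfl⟩ := hmksurj m
    refine le_antisymm ?_ ?_
    · have := hle x⁻¹ (mk x)
      rwa [map_inv, mul_inv_cancel] at this
    · have := hle x 1
      rwa [one_mul] at this
  have hTmap : ∀ m, ∀ X ∈ U m, τ g X ∈ U (a g m) := by
    intro m X hX
    rw [hmem] at hX ⊢
    intro y
    have h1 := hX (MulAut.conjNormal g⁻¹ y)
    rw [MulAut.conjNormal_apply, inv_inv] at h1
    calc τ (y : G) (τ g X) = τ g (τ (g⁻¹ * y * g) X) := by
          rw [← Module.End.mul_apply, ← Module.End.mul_apply, ← map_mul, ← map_mul]; group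
      _ = wt m (MulAut.conjNormal g⁻¹ y) • τ g X := by rw [h1, map_smul]
      _ = _ := by
        congr 1
        change b (mk _) m = b (mk y) (a g m)
        rw [← hinv g, ha, ← MulAut.mul_apply, ← map_mul, mul_inv_cancel, map_one, MulAut.one_apply]
  have hperm := perm_bound U hUind hUtop hp.out (a g).toEquiv
    (Equiv.ext fun x => by
      have h1 : ∀ j : ℕ, ((a g).toEquiv ^ j) x = (a g ^ j) x := by
        intro j
        induction j with
        | zero => simp
        | succ j ih => rw [pow_succ', Equiv.Perm.mul_apply, ih, pow_succ', MulAut.mul_apply]; rfl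
      rw [h1, ← map_pow, ← hg, pow_orderOf_eq_one, map_one]; rfl)
    (τ g) hTmap (by rw [← map_pow, ← hg, pow_orderOf_eq_one, map_one])
  set d := finrank L (U 1) with hd
  set F := Nat.card (disp (a g)).ker with hF
  have htot : Fintype.card M * d = n * n := by
    have hint : DirectSum.IsInternal U :=
      (DirectSum.isInternal_submodule_iff_iSupIndep_and_iSup_eq_top U).2 ⟨hUind, hUtop⟩
    have := (LinearEquiv.ofBijective (DirectSum.coeLinearMap U) hint).finrank_eq
    rw [Module.finrank_directSum, Finset.sum_congr rfl (fun m _ => hdim m), Finset.sum_const, Finset.card_univ,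
      smul_eq_mul, Module.finrank_linearMap] at this
    exact this
  have hFcard : (Finset.univ.filter fun m => (a g).toEquiv m = m).card = F := by
    rw [hF, ← Nat.card_eq_finsetCard]
    exact Nat.card_congr (Equiv.subtypeEquivRight fun m => by
      rw [mem_ker_disp, Finset.mem_filter, and_iff_right (Finset.mem_univ _)]; rfl)
  have hFle : F ≤ Fintype.card M := hFcard ▸ Finset.card_le_univ _
  -- a lower bound for the centraliser of `σ g`
  have hlow : c * c + 1 ≤ finrank L ↥(LinearMap.ker (τ g - 1)) := by
    set T := σ g with hT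
    set T' := σ g⁻¹ with hT'
    let J := LinearMap.range (T - 1)
    let K := LinearMap.ker (T - 1)
    let Φ : (W ⧸ J →ₗ[L] K) →ₗ[L] Module.End L W :=
      (LinearMap.llcomp L W K W K.subtype).comp (LinearMap.lcomp L K J.mkQ)
    have hΦinj : Function.Injective Φ := by
      intro X Y h
      refine LinearMap.ext fun q => ?_
      obtain ⟨v, rfl⟩ := J.mkQ_surjective q
      exact Subtype.ext (LinearMap.congr_fun h v)
    have hKc : finrank L K = c := rfl
    have hq : finrank L (W ⧸ J) = c := by
      have h1 := J.finrank_quotient_add_finrank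
      have h2 : finrank L J + finrank L K = n := (T - 1).finrank_range_add_finrank_ker
      omega
    have hPc : finrank L (LinearMap.range Φ) = c * c := by
      rw [LinearMap.finrank_range_of_inj hΦinj, Module.finrank_linearMap, hq, hKc]
    have hPle : LinearMap.range Φ ≤ LinearMap.ker (τ g - 1) := by
      rintro _ ⟨X, rfl⟩
      rw [LinearMap.mem_ker, LinearMap.sub_apply, Module.End.one_apply, sub_eq_zero, conjEnd_apply]
      refine LinearMap.ext fun v => ?_
      change T ((X (J.mkQ (T' v)) : W)) = (X (J.mkQ v) : W)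
      have hfix : ∀ k : K, T (k : W) = k := fun k => sub_eq_zero.1 (LinearMap.mem_ker.1 k.2)
      rw [hfix]
      congr 2
      rw [Submodule.mkQ_apply, Submodule.mkQ_apply, Submodule.Quotient.eq]
      have hTT : T (T' v) = v := LinearMap.congr_fun (hσunit g) v
      exact ⟨- T' v, by simp [hTT]; abel⟩
    have hone : (1 : Module.End L W) ∈ LinearMap.ker (τ g - 1) := by
      rw [LinearMap.mem_ker, LinearMap.sub_apply, Module.End.one_apply, sub_eq_zero, conjEnd_apply, one_mul,
        hσunit]
    have hnot : (1 : Module.End L W) ∉ LinearMap.range Φ := by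
      rintro ⟨X, hX⟩
      apply hg1
      apply hinj
      refine LinearMap.ext fun v => ?_
      have h1 : (X (J.mkQ v) : W) = v := LinearMap.congr_fun hX v
      have h2 := LinearMap.mem_ker.1 (X (J.mkQ v)).2
      rw [h1] at h2
      exact sub_eq_zero.1 h2
    have hlt : LinearMap.range Φ < LinearMap.ker (τ g - 1) :=
      lt_of_le_of_ne hPle fun e => hnot (e ▸ hone)
    have := Submodule.finrank_lt_finrank_of_lt hlt
    omega
  have hsum : (∑ m, if (a g).toEquiv m = m then p * finrank L (U m) else finrank L (U m)) =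
      F * (p * d) + (Fintype.card M - F) * d := by
    rw [Finset.sum_congr rfl (fun m _ => by rw [hdim m]), Finset.sum_ite, Finset.sum_const, Finset.sum_const,
      smul_eq_mul, smul_eq_mul, hFcard, Finset.filter_not, Finset.card_sdiff, Finset.inter_univ, hFcard,
      Finset.card_univ]
  have hmain : p * (c * c + 1) ≤ F * (p * d) + (Fintype.card M - F) * d :=
    (Nat.mul_le_mul_left p hlow).trans (hperm.trans hsum.le)
  rw [Nat.card_eq_fintype_card (α := M)] at hsym
  obtain ⟨p', rfl⟩ := Nat.exists_eq_add_of_le hp5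
  obtain ⟨M', hM'⟩ := Nat.exists_eq_add_of_le hFle
  rw [hM', Nat.add_sub_cancel_left] at hmain
  rw [show 5 + p' - 1 = 4 + p' by omega, show 5 + p' - 4 = 1 + p' by omega, hM'] at hsym
  rw [hM'] at htot
  have h4 : (5 + p') * (4 * (c * c + 1)) ≤ (5 + p') * (n * n) := by
    rw [← htot]
    nlinarith [Nat.mul_le_mul_right d hsym, hmain]
  have h5 := Nat.le_of_mul_le_mul_left h4 (by omega)
  by_contra h
  push Not at h
  nlinarith [Nat.mul_le_mul h h]

end Scalar

/-- The main bound over an algebraically closed field. -/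
theorem fixed_lt_half {L : Type*} [Field L] [IsAlgClosed L] {ℓ : ℕ} [Fact ℓ.Prime] [CharP L ℓ]
    [Group.IsSolvable G] {g : G} {p : ℕ} [Fact p.Prime] (hp5 : 5 ≤ p) (hg : orderOf g = p)
    (hgen : Subgroup.normalClosure ({g} : Set G) = ⊤) (m : ℕ) :
    ∀ {W : Type*} [AddCommGroup W] [Module L W] [FiniteDimensional L W] [Nontrivial W],
    finrank L W ≤ m → ∀ σ : G →* Module.End L W,
    (∀ N : Subgroup G, N.Normal → N ≠ ⊥ → ∀ w : W, (∀ x ∈ N, σ x w = w) → w = 0) →
    2 * finrank L ↥(LinearMap.ker (σ g - 1)) < finrank L W := by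
  induction m with
  | zero =>
    intro W _ _ _ _ h
    exact absurd (Module.finrank_pos (R := L) (M := W)) (by omega)
  | succ m ih =>
    intro W _ _ _ _ hm σ hN
    by_cases hsc : ∀ z ∈ Subgroup.center G, ∃ a : L, σ z = a • (1 : Module.End L W)
    · exact scalar_case σ hN hsc hp5 hg hgen
    push Not at hsc
    obtain ⟨z, hz, hza⟩ := hsc
    obtain ⟨a, ha⟩ := Module.End.exists_eigenvalue (σ z)
    set f := σ z - a • (1 : Module.End L W) with hf
    have hfc : ∀ u w, σ u (f w) = f (σ u w) := by
      intro u w
      simp only [hf, LinearMap.sub_apply, LinearMap.smul_apply, Module.End.one_apply, map_sub, map_smul]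
      rw [← Module.End.mul_apply, ← Module.End.mul_apply, ← map_mul, ← map_mul, Subgroup.mem_center_iff.1 hz u]
    have hker0 : LinearMap.ker f ≠ ⊥ := by
      have hEq : LinearMap.ker f = (σ z).eigenspace a := by
        ext w; simp [hf, Module.End.mem_eigenspace_iff, sub_eq_zero]
      rw [hEq]; exact ha
    have hf0 : f ≠ 0 := fun h => hza a (sub_eq_zero.1 h)
    have hran0 : LinearMap.range f ≠ ⊥ := fun h => hf0 (LinearMap.range_eq_bot.1 h)
    have hdim := f.finrank_range_add_finrank_ker
    -- restriction to an invariant subspace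
    have hsub : ∀ U : Submodule L W, U ≠ ⊥ → finrank L U < finrank L W → (∀ u, ∀ w ∈ U, σ u w ∈ U) →
        2 * finrank L ↥(LinearMap.ker (σ g - 1) ⊓ U) < finrank L U := by
      intro U hU hlt hinv
      haveI : Nontrivial U := Submodule.nontrivial_iff_ne_bot.2 hU
      let σU : G →* Module.End L U :=
        { toFun := fun u => (σ u).restrict (hinv u)
          map_one' := LinearMap.ext fun w => Subtype.ext (by simp)
          map_mul' := fun u v => LinearMap.ext fun w => Subtype.ext (by simp) }
      refine lt_of_le_of_lt (Nat.mul_le_mul_left 2 ?_) (ih (W := U) (by omega) σU fun N hNn hN1 w hw =>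
        Subtype.ext (hN N hNn hN1 w fun x hx => congrArg Subtype.val (hw x hx)))
      refine LinearMap.finrank_le_finrank_of_injective
        (f := LinearMap.codRestrict (LinearMap.ker (σU g - 1))
          (LinearMap.codRestrict U (LinearMap.ker (σ g - 1) ⊓ U).subtype fun w => w.2.2) fun w => ?_) ?_
      · rw [LinearMap.mem_ker, LinearMap.sub_apply, sub_eq_zero]
        exact Subtype.ext (sub_eq_zero.1 (LinearMap.mem_ker.1 w.2.1))
      · intro x y h
        exact Subtype.ext (congrArg (fun v => ((v.1 : U) : W)) h)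
    have hA := hsub _ hker0 (by
        have : 0 < finrank L (LinearMap.range f) :=
          Nat.pos_of_ne_zero fun h => hran0 (Submodule.finrank_eq_zero.1 h)
        omega) (fun u w hw => by rw [LinearMap.mem_ker] at hw ⊢; rw [← hfc, hw, map_zero])
    have hB := hsub _ hran0 (by
        have : 0 < finrank L (LinearMap.ker f) :=
          Nat.pos_of_ne_zero fun h => hker0 (Submodule.finrank_eq_zero.1 h)
        omega) (fun u w hw => by obtain ⟨v, rfl⟩ := hw; exact ⟨σ u v, (hfc u v).symm⟩)
    set K := LinearMap.ker (σ g - 1) with hK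
    have h1 := (f.domRestrict K).finrank_range_add_finrank_ker
    have h2 : finrank L (LinearMap.ker (f.domRestrict K)) ≤ finrank L ↥(K ⊓ LinearMap.ker f) := by
      refine LinearMap.finrank_le_finrank_of_injective
        (f := LinearMap.codRestrict _ (K.subtype.comp (LinearMap.ker (f.domRestrict K)).subtype)
          fun w => ⟨w.1.2, LinearMap.mem_ker.1 w.2⟩) ?_
      intro x y h
      exact Subtype.ext (Subtype.ext (congrArg Subtype.val h :))
    have h3 : finrank L (LinearMap.range (f.domRestrict K)) ≤ finrank L ↥(K ⊓ LinearMap.range f) := by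
      refine Submodule.finrank_mono ?_
      rintro _ ⟨⟨w, hw⟩, rfl⟩
      refine ⟨?_, ⟨w, rfl⟩⟩
      change f w ∈ LinearMap.ker (σ g - 1)
      rw [LinearMap.mem_ker, LinearMap.sub_apply, Module.End.one_apply, hfc, sub_eq_zero]
      exact congrArg f (sub_eq_zero.1 (LinearMap.mem_ker.1 hw))
    omega

/-- The bound for a faithful irreducible representation over a field of prime characteristic. -/
theorem fixed_lt_half_of_irreducible {k : Type*} [Field k] {ℓ : ℕ} [Fact ℓ.Prime] [CharP k ℓ]
    [Group.IsSolvable G] {g : G} {p : ℕ} [Fact p.Prime] (hp5 : 5 ≤ p) (hg : orderOf g = p)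
    (hgen : Subgroup.normalClosure ({g} : Set G) = ⊤)
    {V : Type*} [AddCommGroup V] [Module k V] [FiniteDimensional k V] (ρ : Representation k G V)
    [ρ.IsIrreducible] (hfaith : Function.Injective ρ) :
    2 * finrank k ↥(LinearMap.ker (ρ g - LinearMap.id)) < finrank k V := by
  classical
  let L := AlgebraicClosure k
  haveI : CharP L ℓ := charP_of_injective_algebraMap (algebraMap k L).injective ℓ
  haveI : Nontrivial V := by
    rw [← not_subsingleton_iff_nontrivial]
    intro h
    have hs : Subsingleton (Subrepresentation ρ) :=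
      ⟨fun A B => Subrepresentation.toSubmodule_injective (Subsingleton.elim _ _)⟩
    exact false_of_nontrivial_of_subsingleton (Subrepresentation ρ)
  let σ : G →* Module.End L (TensorProduct k L V) :=
    { toFun := fun u => (ρ u).baseChange L
      map_one' := by rw [map_one, LinearMap.baseChange_one]
      map_mul' := fun u v => by rw [map_mul, LinearMap.baseChange_mul] }
  have hfix0 : ∀ N : Subgroup G, N.Normal → N ≠ ⊥ → ∀ v : V, (∀ x ∈ N, ρ x v = v) → v = 0 := by
    intro N hNn hN1 v hv
    let S : Subrepresentation ρ :=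
      { toSubmodule := ⨅ x : N, LinearMap.ker (ρ (x : G) - 1)
        apply_mem_toSubmodule := fun u w hw => by
          simp only [Submodule.mem_iInf, LinearMap.mem_ker, LinearMap.sub_apply, Module.End.one_apply,
            sub_eq_zero] at hw ⊢
          intro x
          have h1 := hw ⟨u⁻¹ * x * u, by simpa using hNn.conj_mem x x.2 u⁻¹⟩
          calc ρ (x : G) (ρ u w) = ρ u (ρ (u⁻¹ * x * u) w) := by
                rw [← Module.End.mul_apply, ← Module.End.mul_apply, ← map_mul, ← map_mul]; group
            _ = ρ u w := by rw [show ρ (u⁻¹ * (x : G) * u) w = w from h1] }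
    rcases eq_bot_or_eq_top S with h | h
    · have hvS : v ∈ S.toSubmodule := by
        simp only [S, Submodule.mem_iInf, LinearMap.mem_ker, LinearMap.sub_apply, Module.End.one_apply, sub_eq_zero]
        exact fun x => hv x x.2
      rw [h] at hvS
      exact hvS
    · exfalso
      apply hN1
      rw [Subgroup.eq_bot_iff_forall]
      intro x hx
      apply hfaith
      rw [map_one]
      refine LinearMap.ext fun w => ?_
      have hwS : w ∈ S.toSubmodule := by rw [h]; trivial
      simp only [S, Submodule.mem_iInf, LinearMap.mem_ker, LinearMap.sub_apply, Module.End.one_apply,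
        sub_eq_zero] at hwS
      exact hwS ⟨x, hx⟩
  let B := Module.Basis.ofVectorSpace k L
  let C : Module.Basis.ofVectorSpaceIndex k L → TensorProduct k L V →ₗ[k] V := fun i =>
    (TensorProduct.lid k V).toLinearMap ∘ₗ (B.coord i).rTensor V
  have hC : ∀ w, (∀ i, C i w = 0) → w = 0 := by
    intro w hw
    apply (TensorProduct.equivFinsuppOfBasisLeft B (N := V)).injective
    rw [map_zero]
    ext i
    have : (Finsupp.lapply i).comp (TensorProduct.equivFinsuppOfBasisLeft B (N := V)).toLinearMap = C i :=
      TensorProduct.ext' fun x y => by simp [C, TensorProduct.equivFinsuppOfBasisLeft_apply_tmul_apply]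
    exact (LinearMap.congr_fun this w).trans (hw i)
  have hN : ∀ N : Subgroup G, N.Normal → N ≠ ⊥ → ∀ w : TensorProduct k L V,
      (∀ x ∈ N, σ x w = w) → w = 0 := by
    intro N hNn hN1 w hw
    refine hC w fun i => hfix0 N hNn hN1 _ fun x hx => ?_
    have : (ρ x).comp (C i) = (C i).comp ((σ x).restrictScalars k) :=
      TensorProduct.ext' fun a v => by simp [σ, C]
    have h2 := LinearMap.congr_fun this w
    exact h2.trans (congrArg (C i) (hw x hx))
  have hnV : finrank L (TensorProduct k L V) = finrank k V := Module.finrank_baseChange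
  haveI : Nontrivial (TensorProduct k L V) :=
    Module.nontrivial_of_finrank_pos (R := L) (by rw [hnV]; exact Module.finrank_pos)
  have hmain := fixed_lt_half (L := L) (ℓ := ℓ) hp5 hg hgen _ le_rfl σ hN
  rw [hnV] at hmain
  refine lt_of_le_of_lt (Nat.mul_le_mul_left 2 ?_) hmain
  set K := LinearMap.ker (ρ g - LinearMap.id)
  rw [← Module.finrank_baseChange (R := L) (S := k) (M' := K)]
  refine LinearMap.finrank_le_finrank_of_injective
    (f := LinearMap.codRestrict (LinearMap.ker (σ g - 1)) (K.subtype.baseChange L) fun w => ?_) ?_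
  · rw [LinearMap.mem_ker, LinearMap.sub_apply, Module.End.one_apply, sub_eq_zero]
    induction w using TensorProduct.induction_on with
    | zero => simp
    | tmul x v =>
      have hv : ρ g (v : V) = v := sub_eq_zero.1 (LinearMap.mem_ker.1 v.2)
      simp [σ, hv]
    | add x y hx hy => rw [map_add, map_add, hx, hy]
  · refine (fun x y h => ?_)
    have hinj : Function.Injective (K.subtype.baseChange L) :=
      Module.Flat.lTensor_preserves_injective_linearMap (M := L) K.subtype K.injective_subtype
    exact hinj (congrArg Subtype.val h)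

end CfsgLib.FGS.FixedHalf
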