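/-
A solvable group generated by two conjugates of an element of prime order at least five, extended by
an irreducible module on which a normal coprime subgroup acts nontrivially, is generated by two
conjugates as well.
-/
import Cfsg.Agent.Lib.FGS.FixedHalf.Main

set_option autoImplicit false

namespace CfsgLib.FGS.FixedHalf

open Module
open scoped Pointwise

variable {H : Type*} [Group H] [Finite H]

/-- The two fixed spaces of conjugate generators of prime order do not span. -/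
theorem exists_not_mem_sum {A : Type*} [Group A] [Finite A] [Group.IsSolvable A] {k : Type*} [Field k]
    {ℓ : ℕ} [Fact ℓ.Prime] [CharP k ℓ] {W : Type*} [AddCommGroup W] [Module k W] [FiniteDimensional k W]
    [Nontrivial W] (ρ : Representation k A W)
    (hirr : ∀ S : Submodule k W, (∀ x, ∀ v ∈ S, ρ x v ∈ S) → S = ⊥ ∨ S = ⊤)
    (hnt : ∃ (x : A) (v : W), ρ x v ≠ v) {g a : A} {p : ℕ} [hp : Fact p.Prime] (hp5 : 5 ≤ p)
    (hg : orderOf g = p) (hgen : Subgroup.closure ({g, a * g * a⁻¹} : Set A) = ⊤) :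
    ∃ v : W, ¬ ∃ w : W, ρ g w = w ∧ ρ (a * g * a⁻¹) (v - w) = v - w := by
  classical
  by_contra hall
  push Not at hall
  let q := QuotientGroup.mk' (MonoidHom.ker ρ)
  obtain ⟨ρ', hρ'⟩ : ∃ ρ' : Representation k (A ⧸ MonoidHom.ker ρ) W, ∀ x : A, ρ' (q x) = ρ x :=
    ⟨QuotientGroup.lift (MonoidHom.ker ρ) ρ le_rfl, fun x => rfl⟩
  have hinj : Function.Injective ρ' := by
    intro x y h
    obtain ⟨u, rfl⟩ := QuotientGroup.mk'_surjective (MonoidHom.ker ρ) x
    obtain ⟨v, rfl⟩ := QuotientGroup.mk'_surjective (MonoidHom.ker ρ) y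
    rw [hρ', hρ'] at h
    refine QuotientGroup.eq.2 ?_
    rw [MonoidHom.mem_ker, map_mul, ← h, ← map_mul, inv_mul_cancel, map_one]
  have : Group.IsSolvable (A ⧸ MonoidHom.ker ρ) := solvable_of_surjective (QuotientGroup.mk'_surjective _)
  haveI : Nontrivial (Subrepresentation ρ') := ⟨⊥, ⊤, fun e => by
    have : (⊥ : Submodule k W) = ⊤ := congrArg Subrepresentation.toSubmodule e
    exact bot_ne_top this⟩
  haveI : ρ'.IsIrreducible := by
    constructor
    intro S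
    rcases hirr S.toSubmodule (fun x v hv => by rw [← hρ' x]; exact S.apply_mem_toSubmodule (q x) hv) with h | h
    · exact Or.inl (Subrepresentation.toSubmodule_injective h)
    · exact Or.inr (Subrepresentation.toSubmodule_injective h)
  have hgen₀ : Subgroup.normalClosure ({q g} : Set (A ⧸ MonoidHom.ker ρ)) = ⊤ := by
    rw [eq_top_iff, ← MonoidHom.range_eq_top.2 (QuotientGroup.mk'_surjective (MonoidHom.ker ρ)),
      MonoidHom.range_eq_map, ← hgen, MonoidHom.map_closure, Set.image_pair, Subgroup.closure_le]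
    have h1 : q g ∈ Subgroup.normalClosure ({q g} : Set (A ⧸ MonoidHom.ker ρ)) :=
      Subgroup.subset_normalClosure rfl
    rintro _ (rfl | rfl)
    · exact h1
    · rw [map_mul, map_mul, map_inv]
      exact Subgroup.normalClosure_normal.conj_mem _ h1 _
  have hord : orderOf (q g) = p := by
    refine ((Nat.dvd_prime hp.out).1 (hg ▸ orderOf_map_dvd q g)).resolve_left fun h1 => ?_
    rw [orderOf_eq_one_iff] at h1
    rw [h1, Subgroup.normalClosure_eq_bot_iff.2 (by simp)] at hgen₀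
    obtain ⟨x, v, hne⟩ := hnt
    apply hne
    have h2 : q x ∈ (⊥ : Subgroup (A ⧸ MonoidHom.ker ρ)) := hgen₀ ▸ Subgroup.mem_top _
    rw [Subgroup.mem_bot] at h2
    rw [← hρ', h2, map_one, Module.End.one_apply]
  have hmain := fixed_lt_half_of_irreducible (ℓ := ℓ) hp5 hord hgen₀ ρ' hinj
  set K := LinearMap.ker (ρ' (q g) - LinearMap.id) with hK
  have hKmem : ∀ v : W, v ∈ K ↔ ρ g v = v := fun v => by
    rw [hK, LinearMap.mem_ker, LinearMap.sub_apply, LinearMap.id_apply, sub_eq_zero, hρ']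
  let F : (K × K) →ₗ[k] W := K.subtype.coprod ((ρ a).comp K.subtype)
  have hFsurj : Function.Surjective F := by
    intro v
    obtain ⟨w, hwg, hwh⟩ := hall v
    have h2 : ρ a⁻¹ (v - w) ∈ K := by
      rw [hKmem]
      conv_rhs => rw [← hwh]
      rw [← Module.End.mul_apply, ← Module.End.mul_apply, ← map_mul, ← map_mul]
      group
    refine ⟨(⟨w, (hKmem w).2 hwg⟩, ⟨_, h2⟩), ?_⟩
    change w + ρ a (ρ a⁻¹ (v - w)) = v
    rw [← Module.End.mul_apply, ← map_mul, mul_inv_cancel, map_one, Module.End.one_apply, add_sub_cancel]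
  have := LinearMap.finrank_range_le F
  rw [LinearMap.range_eq_top.2 hFsurj, finrank_top, Module.finrank_prod] at this
  omega

/-- Consequence of the bound on fixed spaces: some element of the module does not factor through the
centralisers of the two generators. -/
theorem exists_not_factor (A V : Subgroup H) [V.Normal] [Group.IsSolvable A]
    (hVc : ∀ u ∈ V, ∀ v ∈ V, u * v = v * u) {r : ℕ} [hr : Fact r.Prime] (hVr : ∀ v ∈ V, v ^ r = 1)
    (hV1 : V ≠ ⊥)
    (hirr : ∀ D : Subgroup H, D ≤ V → (∀ a ∈ A, ∀ d ∈ D, a * d * a⁻¹ ∈ D) → D = ⊥ ∨ D = V)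
    {g a : H} {p : ℕ} [hp : Fact p.Prime] (hp5 : 5 ≤ p) (hg : orderOf g = p) (hgA : g ∈ A) (haA : a ∈ A)
    (hgen : A ≤ Subgroup.closure ({g, a * g * a⁻¹} : Set H))
    (hnt : ∃ x ∈ A, ∃ v ∈ V, x * v ≠ v * x) :
    ∃ v ∈ V, ¬ ∃ w ∈ V, w * g = g * w ∧ (w⁻¹ * v) * (a * g * a⁻¹) = (a * g * a⁻¹) * (w⁻¹ * v) := by
  classical
  letI : CommGroup V := { mul_comm := fun u v => Subtype.ext (hVc u u.2 v v.2) }
  letI : Module (ZMod r) (Additive V) := AddCommGroup.zmodModule (n := r) (G := Additive V)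
    fun v => congrArg Additive.ofMul (Subtype.ext (hVr _ (Additive.toMul v).2) : Additive.toMul v ^ r = 1)
  let cl : A → Module.End (ZMod r) (Additive V) := fun x =>
    (MonoidHom.toAdditive (MulAut.conjNormal (x : H)).toMonoidHom).toZModLinearMap r
  have hval : ∀ (x : A) (v : Additive V),
      ((Additive.toMul (cl x v) : V) : H) = x * (Additive.toMul v : V) * (x : H)⁻¹ :=
    fun x v => MulAut.conjNormal_apply _ _
  have hcl1 : cl 1 = 1 := by
    refine LinearMap.ext fun v => Additive.toMul.injective (Subtype.ext ?_)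
    rw [hval, Module.End.one_apply]
    simp
  have hcl2 : ∀ x y, cl (x * y) = cl x * cl y := fun x y => by
    refine LinearMap.ext fun v => Additive.toMul.injective (Subtype.ext ?_)
    rw [Module.End.mul_apply, hval, hval, hval]
    simp [mul_assoc]
  let ρ : Representation (ZMod r) A (Additive V) := { toFun := cl, map_one' := hcl1, map_mul' := hcl2 }
  have hfix : ∀ (x : A) (v : Additive V), ρ x v = v ↔
      ((Additive.toMul v : V) : H) * x = x * (Additive.toMul v : V) := by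
    intro x v
    change cl x v = v ↔ _
    rw [← Additive.toMul.injective.eq_iff, ← Subtype.coe_inj, hval, mul_inv_eq_iff_eq_mul, eq_comm]
  haveI : Nontrivial V := (Subgroup.nontrivial_iff_ne_bot V).2 hV1
  have hirr' : ∀ S : Submodule (ZMod r) (Additive V), (∀ x, ∀ v ∈ S, ρ x v ∈ S) → S = ⊥ ∨ S = ⊤ := by
    intro S hS
    let D : Subgroup H :=
      { carrier := {x | ∃ v ∈ S, ((Additive.toMul v : V) : H) = x}
        one_mem' := ⟨0, S.zero_mem, rfl⟩
        mul_mem' := by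
          rintro _ _ ⟨u, hu, rfl⟩ ⟨v, hv, rfl⟩
          exact ⟨u + v, S.add_mem hu hv, rfl⟩
        inv_mem' := by
          rintro _ ⟨u, hu, rfl⟩
          exact ⟨-u, S.neg_mem hu, rfl⟩ }
    have hDV : D ≤ V := by
      rintro _ ⟨v, -, rfl⟩
      exact (Additive.toMul v).2
    have hDA : ∀ x ∈ A, ∀ d ∈ D, x * d * x⁻¹ ∈ D := by
      rintro x hx _ ⟨v, hv, rfl⟩
      exact ⟨cl ⟨x, hx⟩ v, hS _ v hv, hval _ _⟩
    rcases hirr D hDV hDA with h | h
    · left
      refine (Submodule.eq_bot_iff _).2 fun v hv => ?_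
      have : ((Additive.toMul v : V) : H) ∈ D := ⟨v, hv, rfl⟩
      rw [h, Subgroup.mem_bot] at this
      exact Additive.toMul.injective (Subtype.ext this)
    · right
      refine eq_top_iff.2 fun v _ => ?_
      obtain ⟨u, hu, e⟩ : ((Additive.toMul v : V) : H) ∈ D := h.symm ▸ (Additive.toMul v).2
      rwa [← Additive.toMul.injective (Subtype.ext e)]
  have hgenA : Subgroup.closure ({⟨g, hgA⟩, ⟨a, haA⟩ * ⟨g, hgA⟩ * ⟨a, haA⟩⁻¹} : Set A) = ⊤ := by
    apply Subgroup.map_injective A.subtype_injective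
    rw [MonoidHom.map_closure, Set.image_pair, ← MonoidHom.range_eq_map, Subgroup.range_subtype]
    refine le_antisymm ((Subgroup.closure_le _).2 ?_) hgen
    rintro _ (rfl | rfl)
    · exact hgA
    · exact A.mul_mem (A.mul_mem haA hgA) (A.inv_mem haA)
  obtain ⟨v, hv⟩ := exists_not_mem_sum (ℓ := r) ρ hirr' (by
    obtain ⟨x, hx, v, hv, hne⟩ := hnt
    exact ⟨⟨x, hx⟩, Additive.ofMul ⟨v, hv⟩, fun h => hne ((hfix _ _).1 h).symm⟩)
    hp5 (show orderOf (⟨g, hgA⟩ : A) = p by rw [Subgroup.orderOf_mk, hg]) hgenA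
  refine ⟨(Additive.toMul v : V), (Additive.toMul v).2, ?_⟩
  rintro ⟨w, hw, hwg, hwh⟩
  refine hv ⟨Additive.ofMul ⟨w, hw⟩, (hfix _ _).2 hwg, (hfix _ _).2 ?_⟩
  have e : ((Additive.toMul (v - Additive.ofMul (⟨w, hw⟩ : V)) : V) : H) = w⁻¹ * (Additive.toMul v : V) := by
    rw [hVc w⁻¹ (V.inv_mem hw) _ (Additive.toMul v).2, ← div_eq_mul_inv]
    rfl
  rw [e]
  exact hwh

/-- Some pair of conjugates generates the whole group. -/
theorem exists_two_generators (A V Q : Subgroup H) [hVn : V.Normal] [Group.IsSolvable A]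
    (hVc : ∀ u ∈ V, ∀ v ∈ V, u * v = v * u) {r : ℕ} [hr : Fact r.Prime] (hVr : ∀ v ∈ V, v ^ r = 1)
    (hV1 : V ≠ ⊥) (hinf : A ⊓ V = ⊥) (hsup : A ⊔ V = ⊤)
    (hirr : ∀ D : Subgroup H, D ≤ V → (∀ a ∈ A, ∀ d ∈ D, a * d * a⁻¹ ∈ D) → D = ⊥ ∨ D = V)
    {q : ℕ} [hq : Fact q.Prime] (hQ : IsPGroup q Q) (hqr : q ≠ r) (hQA : Q ≤ A)
    (hAQ : ∀ a ∈ A, ∀ x ∈ Q, a * x * a⁻¹ ∈ Q) (hQV : ∃ x ∈ Q, ∃ v ∈ V, x * v ≠ v * x)
    {g a : H} {p : ℕ} [hp : Fact p.Prime] (hp5 : 5 ≤ p) (hg : orderOf g = p) (hgA : g ∈ A) (haA : a ∈ A)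
    (hgen : A ≤ Subgroup.closure ({g, a * g * a⁻¹} : Set H)) :
    ∃ v ∈ V, Subgroup.closure ({g, (v * a) * g * (v * a)⁻¹} : Set H) = ⊤ := by
  classical
  by_contra hall
  push Not at hall
  obtain ⟨v, hv, hno⟩ := exists_not_factor A V hVc hVr hV1 hirr hp5 hg hgA haA hgen
    (by obtain ⟨x, hx, hh⟩ := hQV; exact ⟨x, hQA hx, hh⟩)
  set B := Subgroup.closure ({g, (v * a) * g * (v * a)⁻¹} : Set H) with hB
  have hgB : g ∈ B := Subgroup.subset_closure (Or.inl rfl)
  have hhB : (v * a) * g * (v * a)⁻¹ ∈ B := Subgroup.subset_closure (Or.inr rfl)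
  have hAB : A ≤ B ⊔ V := by
    refine hgen.trans ((Subgroup.closure_le _).2 ?_)
    rintro _ (rfl | rfl)
    · exact Subgroup.mem_sup_left hgB
    · have h1 := Subgroup.mem_sup_left (T := V) hhB
      have h2 : v ∈ B ⊔ V := Subgroup.mem_sup_right hv
      have := mul_mem (mul_mem (inv_mem h2) h1) h2
      simpa [mul_assoc] using this
  have hBVtop : B ⊔ V = ⊤ := top_le_iff.1 (hsup ▸ sup_le hAB le_sup_right)
  have hmulB : ∀ x : H, ∃ b ∈ B, ∃ u ∈ V, b * u = x := fun x => by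
    have : x ∈ ((B ⊔ V : Subgroup H) : Set H) := by rw [hBVtop]; trivial
    rwa [Subgroup.mul_normal] at this
  have hBV : B ⊓ V = ⊥ := by
    refine (hirr (B ⊓ V) inf_le_right fun x _ d hd => ?_).resolve_right fun h => hall v hv ?_
    · obtain ⟨b, hb, u, hu, rfl⟩ := hmulB x
      have e : b * u * d * (b * u)⁻¹ = b * d * b⁻¹ := by
        rw [mul_inv_rev, show b * u * d * (u⁻¹ * b⁻¹) = b * (u * d * u⁻¹) * b⁻¹ by group,
          hVc u hu d hd.2, mul_inv_cancel_right]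
      rw [e]
      exact ⟨B.mul_mem (B.mul_mem hb hd.1) (B.inv_mem hb), hVn.conj_mem d hd.2 b⟩
    · rw [← hB, ← hBVtop, sup_eq_left.2 (h ▸ inf_le_left : V ≤ B)]
  -- the conjugates of `Q`
  set M := Q ⊔ V with hM
  haveI hMn : M.Normal := by
    rw [← Subgroup.normalizer_eq_top_iff, eq_top_iff, ← hsup]
    refine sup_le (fun x hx => ?_) ((le_sup_right : V ≤ M).trans Subgroup.le_normalizer)
    refine Subgroup.mem_normalizer_fintype (S := (M : Set H)) fun y hy => ?_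
    have : (Q ⊔ V).map (MulAut.conj x).toMonoidHom ≤ M := by
      rw [Subgroup.map_sup]
      refine sup_le ?_ ?_
      · rintro _ ⟨z, hz, rfl⟩
        exact Subgroup.mem_sup_left (hAQ x hx z hz)
      · rintro _ ⟨z, hz, rfl⟩
        exact Subgroup.mem_sup_right (hVn.conj_mem z hz x)
    exact this ⟨y, hy, rfl⟩
  have hdisj : ∀ K : Subgroup H, IsPGroup q K → K ⊓ V = ⊥ := fun K hK =>
    (IsPGroup.disjoint_of_ne q r hqr K V hK (fun x => ⟨1, Subtype.ext (by simpa using hVr x x.2)⟩)).eq_bot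
  have hcardK : ∀ K : Subgroup H, K ≤ M → K ⊓ V = ⊥ → (M : Set H) ⊆ (K : Set H) * (V : Set H) →
      Nat.card M = Nat.card K * Nat.card V := by
    intro K hKM hKV hsub
    rw [← Nat.card_prod]
    refine (Nat.card_congr (Equiv.ofBijective
      (fun z : K × V => (⟨z.1 * z.2, M.mul_mem (hKM z.1.2) (Subgroup.mem_sup_right z.2.2)⟩ : M))
      ⟨fun z z' e => ?_, fun m => ?_⟩)).symm
    · exact Subgroup.mul_injective_of_disjoint (disjoint_iff.2 hKV) (congrArg Subtype.val e)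
    · obtain ⟨k, hk, u, hu, e⟩ := hsub m.2
      exact ⟨(⟨k, hk⟩, ⟨u, hu⟩), Subtype.ext e⟩
  have hcardM : Nat.card M = Nat.card Q * Nat.card V :=
    hcardK Q le_sup_left (hdisj Q hQ) (by rw [← Subgroup.mul_normal])
  set T := B ⊓ M with hT
  have hmulT : ((T : Set H) * (V : Set H)) = (M : Set H) := by
    ext x
    constructor
    · rintro ⟨t, ht, u, hu, rfl⟩
      exact M.mul_mem ht.2 (Subgroup.mem_sup_right hu)
    · intro hx
      obtain ⟨b, hb, u, hu, rfl⟩ := hmulB x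
      refine ⟨b, ⟨hb, ?_⟩, u, hu, rfl⟩
      simpa using M.mul_mem hx (M.inv_mem (Subgroup.mem_sup_right hu))
  have hcardT : Nat.card T = Nat.card Q := by
    have h1 := hcardK T inf_le_right (le_bot_iff.1 (hBV ▸ inf_le_inf_right V inf_le_left)) hmulT.superset
    exact Nat.eq_of_mul_eq_mul_right (Nat.card_pos (α := V)) (h1.symm.trans hcardM)
  obtain ⟨e, he⟩ := hQ.exists_card_eq
  have hTp : IsPGroup q T := IsPGroup.of_card (n := e) (hcardT.trans he)
  have hfac : (Nat.card M).factorization q = e := by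
    obtain ⟨j, hj⟩ := (show IsPGroup r V from fun x => ⟨1, Subtype.ext (by simpa using hVr x x.2)⟩).exists_card_eq
    rw [hcardM, he, hj, Nat.factorization_mul (pow_ne_zero _ hq.out.ne_zero) (pow_ne_zero _ hr.out.ne_zero),
      hq.out.factorization_pow, hr.out.factorization_pow]
    simp [Ne.symm hqr]
  have hsyl : ∀ K : Subgroup H, K ≤ M → Nat.card K = Nat.card Q →
      ∃ S : Sylow q M, (S : Subgroup M) = K.subgroupOf M := by
    intro K hKM hK
    refine ⟨Sylow.ofCard (K.subgroupOf M) ?_, rfl⟩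
    rw [Nat.card_congr (Subgroup.subgroupOfEquivOfLe hKM).toEquiv, hK, he, hfac]
  obtain ⟨SQ, hSQ⟩ := hsyl Q le_sup_left rfl
  obtain ⟨ST, hST⟩ := hsyl T inf_le_right hcardT
  obtain ⟨⟨m, hm⟩, hmS⟩ := MulAction.exists_smul_eq M SQ ST
  have hmQ : ∀ x ∈ Q, m * x * m⁻¹ ∈ T := by
    intro x hx
    have h1 : (⟨x, le_sup_left (b := V) hx⟩ : M) ∈ (SQ : Subgroup M) := by rw [hSQ]; exact hx
    have h2 : (⟨m, hm⟩ * ⟨x, le_sup_left (b := V) hx⟩ * ⟨m, hm⟩⁻¹ : M) ∈ (ST : Subgroup M) := by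
      rw [← hmS, Sylow.coe_subgroup_smul]
      exact Subgroup.smul_mem_pointwise_smul _ (MulAut.conj _) _ h1
    rw [hST] at h2
    exact h2
  obtain ⟨w, hw, k, hk, rfl⟩ : ∃ w ∈ V, ∃ k ∈ Q, w * k = m := by
    have : m ∈ ((V ⊔ Q : Subgroup H) : Set H) := by rw [sup_comm]; exact hm
    rwa [Subgroup.normal_mul] at this
  have hwQ : ∀ x ∈ Q, w * x * w⁻¹ ∈ T := by
    intro x hx
    have := hmQ (k⁻¹ * x * k) (Q.mul_mem (Q.mul_mem (Q.inv_mem hk) hx) hk)
    simpa [mul_assoc] using this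
  have hinjQ : ∀ y ∈ T, ∃ x ∈ Q, w * x * w⁻¹ = y := by
    intro y hy
    have hEq : Q.map (MulAut.conj w).toMonoidHom = T := by
      refine Subgroup.eq_of_le_of_card_ge ?_ ?_
      · rintro _ ⟨x, hx, rfl⟩; exact hwQ x hx
      · rw [hcardT, Subgroup.card_map_of_injective (MulAut.conj w).injective]
    rw [← hEq] at hy
    obtain ⟨x, hx, rfl⟩ := hy
    exact ⟨x, hx, rfl⟩
  -- `B` lies in the conjugate of `A` normalising that of `Q`
  have hBA : ∀ b ∈ B, w⁻¹ * b * w ∈ A := by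
    intro b hb
    obtain ⟨a₁, ha₁, u, hu, e₁⟩ : ∃ a₁ ∈ A, ∃ u ∈ V, a₁ * u = w⁻¹ * b * w := by
      have : w⁻¹ * b * w ∈ ((A ⊔ V : Subgroup H) : Set H) := by rw [hsup]; trivial
      rwa [Subgroup.mul_normal] at this
    have hnorm : ∀ x ∈ Q, (w⁻¹ * b * w) * x * (w⁻¹ * b * w)⁻¹ ∈ Q := by
      intro x hx
      have h1 : b * (w * x * w⁻¹) * b⁻¹ ∈ T :=
        ⟨B.mul_mem (B.mul_mem hb (hwQ x hx).1) (B.inv_mem hb), hMn.conj_mem _ (hwQ x hx).2 b⟩
      obtain ⟨y, hy, e⟩ := hinjQ _ h1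
      have : (w⁻¹ * b * w) * x * (w⁻¹ * b * w)⁻¹ = y := by
        have e2 : y = w⁻¹ * (w * y * w⁻¹) * w := by group
        rw [e2, e]; group
      rwa [this]
    rw [← e₁] at hnorm ⊢
    suffices hu1 : u = 1 by rw [hu1, mul_one]; exact ha₁
    have hcom : ∀ x ∈ Q, u * x * u⁻¹ = x := by
      intro x hx
      have h1 : u * x * u⁻¹ ∈ Q := by
        have := hAQ a₁⁻¹ (A.inv_mem ha₁) _ (hnorm x hx)
        simpa [mul_assoc] using this
      have h2 : u * x * u⁻¹ * x⁻¹ ∈ V := by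
        have := V.mul_mem hu (hVn.conj_mem u⁻¹ (V.inv_mem hu) x)
        simpa [mul_assoc] using this
      have h3 : u * x * u⁻¹ * x⁻¹ ∈ Q ⊓ V := ⟨Q.mul_mem h1 (Q.inv_mem hx), h2⟩
      rw [hdisj Q hQ, Subgroup.mem_bot] at h3
      exact mul_inv_eq_one.1 h3
    let D : Subgroup H := V ⊓ Subgroup.centralizer (Q : Set H)
    have huD : u ∈ D := ⟨hu, Subgroup.mem_centralizer_iff.2 fun x hx => by
      conv_lhs => rw [← hcom x hx]
      rw [inv_mul_cancel_right]⟩
    rcases hirr D inf_le_left (fun x hx d hd => ⟨hVn.conj_mem d hd.1 x, Subgroup.mem_centralizer_iff.2 fun y hy => by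
        have h1 := Subgroup.mem_centralizer_iff.1 hd.2 _ (hAQ x⁻¹ (A.inv_mem hx) y hy)
        rw [inv_inv] at h1
        calc y * (x * d * x⁻¹) = x * ((x⁻¹ * y * x) * d) * x⁻¹ := by group
          _ = x * (d * (x⁻¹ * y * x)) * x⁻¹ := by rw [h1]
          _ = x * d * x⁻¹ * y := by group⟩) with h | h
    · rw [h, Subgroup.mem_bot] at huD; exact huD
    · exfalso
      obtain ⟨x, hx, v', hv', hne⟩ := hQV
      have h2 : v' ∈ D := by rw [h]; exact hv'
      exact hne (Subgroup.mem_centralizer_iff.1 h2.2 x hx)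
  have hkill : ∀ z ∈ A, ∀ t ∈ V, t * z * t⁻¹ ∈ A → t * z = z * t := by
    intro z hz t ht h
    have h3 : t * z * t⁻¹ * z⁻¹ ∈ A ⊓ V := ⟨A.mul_mem h (A.inv_mem hz), by
      have := V.mul_mem ht (hVn.conj_mem t⁻¹ (V.inv_mem ht) z)
      simpa [mul_assoc] using this⟩
    rw [hinf, Subgroup.mem_bot, mul_inv_eq_one, mul_inv_eq_iff_eq_mul] at h3
    exact h3
  apply hno
  refine ⟨w, hw, ?_, ?_⟩
  · have h1 := hkill g hgA w⁻¹ (V.inv_mem hw) (by simpa using hBA g hgB)
    calc w * g = w * (g * w⁻¹) * w := by group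
      _ = w * (w⁻¹ * g) * w := by rw [h1]
      _ = g * w := by group
  · refine hkill _ (A.mul_mem (A.mul_mem haA hgA) (A.inv_mem haA)) (w⁻¹ * v) (V.mul_mem (V.inv_mem hw) hv) ?_
    have := hBA _ hhB
    simpa [mul_assoc] using this

end CfsgLib.FGS.FixedHalf
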