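/-
Maximal solvable subgroups generated by two conjugates of a subgroup of prime order at least five:
their Fitting subgroup centralises the coprime parts of every nilpotent subgroup they normalise.
-/
import Cfsg.Agent.Lib.FGS.FixedHalf.TwoGen
import Cfsg.Agent.Lib.ThreeTransp.Solv
import Cfsg.Agent.Lib.OddLocal.ActionTools
import Cfsg.Agent.Lib.FGS.FixedFittingLength
import Cfsg.Agent.Lib.CN.Structure

set_option autoImplicit false

namespace CfsgLib.FGS.FixedHalf

open Subgroup
open scoped commutatorElement Pointwise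

variable {G : Type*} [Group G] [Finite G]

theorem commute_of_commutator_fixed {q r : ℕ} [hq : Fact q.Prime] [hr : Fact r.Prime] (hqr : q ≠ r)
    {Q U : Subgroup G} (hQ : IsPGroup q Q) (hU : IsPGroup r U) (hQU : Q ≤ normalizer (U : Set G))
    (h : ∀ u ∈ U, ∀ x ∈ Q, ∀ y ∈ Q, y * ⁅u, x⁆ = ⁅u, x⁆ * y) : ∀ u ∈ U, ∀ x ∈ Q, x * u = u * x := by
  intro u hu x hx
  have hwU : ⁅u, x⁆ ∈ U := by
    have := mul_mem hu ((mem_normalizer_iff.1 (hQU hx) u⁻¹).1 (inv_mem hu))
    simpa [commutatorElement_def, mul_assoc] using this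
  set w := ⁅u, x⁆ with hw
  have hwx : Commute w x := (h u hu x hx x hx).symm
  have hconj : u * x * u⁻¹ = w * x := by rw [hw, commutatorElement_def]; group
  obtain ⟨i, hi⟩ := IsPGroup.iff_orderOf.1 hQ ⟨x, hx⟩
  obtain ⟨j, hj⟩ := IsPGroup.iff_orderOf.1 hU ⟨w, hwU⟩
  rw [Subgroup.orderOf_mk] at hi hj
  have e : (w * x) ^ (q ^ i) = 1 := by
    rw [← hconj, ← hi, conj_pow, pow_orderOf_eq_one, mul_one, mul_inv_cancel]
  rw [hwx.mul_pow, ← hi, pow_orderOf_eq_one, mul_one, hi] at e
  have hd := orderOf_dvd_of_pow_eq_one e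
  rw [hj] at hd
  have h1 : r ^ j = 1 := Nat.eq_one_of_dvd_coprimes
    (Nat.Coprime.pow j i ((Nat.coprime_primes hr.out hq.out).2 hqr.symm)) dvd_rfl hd
  rw [← hj, orderOf_eq_one_iff, hw, commutatorElement_eq_one_iff_mul_comm] at h1
  exact h1.symm

set_option maxHeartbeats 800000 in
/-- The core: a normal `q`-subgroup of `A` centralises every `A`-invariant `r`-subgroup, `r ≠ q`. -/
theorem centralizes (A : Subgroup G) [hAs : Group.IsSolvable A] {g a : G} {p : ℕ} [hp : Fact p.Prime]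
    (hp5 : 5 ≤ p) (hg : orderOf g = p) (haA : a ∈ A) (hA : A = closure ({g, a * g * a⁻¹} : Set G))
    (hmax : ∀ B : Subgroup G, A ≤ B → Group.IsSolvable B →
      (∃ b ∈ B, B = closure ({g, b * g * b⁻¹} : Set G)) → B = A)
    {q r : ℕ} [hq : Fact q.Prime] [hr : Fact r.Prime] (hqr : q ≠ r) {Q : Subgroup G} (hQA : Q ≤ A)
    (hQ : IsPGroup q Q) (hAQ : A ≤ normalizer (Q : Set G)) :
    ∀ (n : ℕ) (U : Subgroup G), Nat.card U ≤ n → IsPGroup r U → A ≤ normalizer (U : Set G) →
      ∀ u ∈ U, ∀ x ∈ Q, x * u = u * x := by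
  classical
  have hgA : g ∈ A := hA ▸ subset_closure (Or.inl rfl)
  intro n
  induction n with
  | zero => intro U hU; exact absurd hU (Nat.not_le.2 Nat.card_pos)
  | succ n ih =>
    intro U hUn hU hAU
    have ih' : ∀ W : Subgroup G, W ≤ U → W ≠ U → A ≤ normalizer (W : Set G) →
        ∀ w ∈ W, ∀ x ∈ Q, x * w = w * x := by
      intro W hle hne hAW
      refine ih W ?_ (hU.to_le hle) hAW
      have : Nat.card W < Nat.card U := lt_of_not_ge fun h => hne (eq_of_le_of_card_ge hle h)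
      omega
    have hQU : Q ≤ normalizer (U : Set G) := hQA.trans hAU
    by_contra hcon
    -- `U = [U, Q]`
    have hgenU : ∀ W : Subgroup G, W ≤ U → A ≤ normalizer (W : Set G) →
        (∀ u ∈ U, ∀ x ∈ Q, ⁅u, x⁆ ∈ W) → W = U := by
      intro W hle hAW hmem
      by_contra hne
      exact hcon (commute_of_commutator_fixed hqr hQ hU hQU fun u hu x hx y hy =>
        ih' W hle hne hAW _ (hmem u hu x hx) y hy)
    have hUne : U ≠ ⊥ := by
      rintro rfl
      exact hcon fun u hu x _ => by rw [mem_bot.1 hu, mul_one, one_mul]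
    haveI : Nontrivial U := (nontrivial_iff_ne_bot U).2 hUne
    set Φ := (frattini U).map U.subtype with hΦ
    have hΦU : Φ ≤ U := map_subtype_le _
    have hAΦ : A ≤ normalizer (Φ : Set G) :=
      hAU.trans (OddLocal.normalizer_le_normalizer_map_characteristic (frattini U))
    have hΦne : Φ ≠ U := fun h => CfsgLib.PGroup.frattini_ne_top hU (map_injective U.subtype_injective
      (h.trans (by rw [← MonoidHom.range_eq_map, range_subtype])))
    set C := U ⊓ centralizer (Q : Set G) with hC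
    have hΦC : Φ ≤ C := fun x hx => ⟨hΦU hx, mem_centralizer_iff.2 fun y hy => ih' Φ hΦU hΦne hAΦ x hx y hy⟩
    have hCU : C ≤ U := inf_le_left
    have hCne : C ≠ U := fun h => hcon fun u hu x hx => by
      have h1 : u ∈ C := h.symm ▸ hu
      exact mem_centralizer_iff.1 h1.2 x hx
    have hcommΦ : ∀ u ∈ U, ∀ v ∈ U, ⁅u, v⁆ ∈ Φ := fun u hu v hv =>
      ⟨⁅(⟨u, hu⟩ : U), ⟨v, hv⟩⁆, CfsgLib.PGroup.commutator_le_frattini hU
        (commutator_mem_commutator (mem_top _) (mem_top _)), rfl⟩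
    have hpowΦ : ∀ u ∈ U, u ^ r ∈ Φ := fun u hu =>
      ⟨(⟨u, hu⟩ : U) ^ r, CfsgLib.PGroup.pow_mem_frattini hU _, rfl⟩
    have hAC : A ≤ normalizer (C : Set G) := by
      intro x hx
      refine mem_normalizer_fintype (S := (C : Set G)) fun y hy => ⟨?_, ?_⟩
      · exact (mem_normalizer_iff.1 (hAU hx) y).1 hy.1
      · refine mem_centralizer_iff.2 fun z hz => ?_
        have hz' : x⁻¹ * z * x ∈ Q := by
          simpa using (mem_normalizer_iff.1 (hAQ (inv_mem hx)) z).1 hz
        have h1 := mem_centralizer_iff.1 hy.2 _ hz'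
        calc z * (x * y * x⁻¹) = x * ((x⁻¹ * z * x) * y) * x⁻¹ := by group
          _ = x * (y * (x⁻¹ * z * x)) * x⁻¹ := by rw [h1]
          _ = x * y * x⁻¹ * z := by group
    have hUC : U ≤ normalizer (C : Set G) := by
      intro x hx
      refine mem_normalizer_fintype (S := (C : Set G)) fun y hy => ?_
      have e : x * y * x⁻¹ = ⁅x, y⁆ * y := by rw [commutatorElement_def]; group
      change x * y * x⁻¹ ∈ C
      rw [e]
      exact mul_mem (hΦC (hcommΦ x hx y hy.1)) hy
    have hinfA : A ⊓ U ≤ C := fun x hx => ⟨hx.2, mem_centralizer_iff.2 fun y hy => by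
      have h1 : ⁅y, x⁆ ∈ Q ⊓ U := by
        constructor
        · have := mul_mem hy ((mem_normalizer_iff.1 (hAQ hx.1) y⁻¹).1 (inv_mem hy))
          simpa [commutatorElement_def, mul_assoc] using this
        · have := mul_mem ((mem_normalizer_iff.1 (hQU hy) x).1 hx.2) (inv_mem hx.2)
          simpa [commutatorElement_def] using this
      rw [(IsPGroup.disjoint_of_ne q r hqr Q U hQ hU).eq_bot, mem_bot,
        commutatorElement_eq_one_iff_mul_comm] at h1
      exact h1⟩
    -- the group `A U`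
    set H := A ⊔ U with hH
    have hAH : A ≤ H := le_sup_left
    have hUH : U ≤ H := le_sup_right
    have hHU : H ≤ normalizer (U : Set G) := sup_le hAU le_normalizer
    have hHC : H ≤ normalizer (C : Set G) := sup_le hAC hUC
    haveI hUnil : Group.IsNilpotent U := hU.isNilpotent
    have hHs : Group.IsSolvable H :=
      ThreeTransp.isSolvable_sup_of_le_normalizer hAs inferInstance hAU
    haveI hCn : (C.subgroupOf H).Normal := normal_subgroupOf_of_le_normalizer hHC
    haveI hUn' : (U.subgroupOf H).Normal := normal_subgroupOf_of_le_normalizer hHU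
    let π := QuotientGroup.mk' (C.subgroupOf H)
    have hπ : ∀ x y : H, π x = π y ↔ (x : G)⁻¹ * y ∈ C := fun x y => by
      rw [QuotientGroup.mk'_apply, QuotientGroup.mk'_apply, QuotientGroup.eq, mem_subgroupOf, coe_mul,
        InvMemClass.coe_inv]
    have hπ1 : ∀ x : H, π x = 1 ↔ (x : G) ∈ C := fun x =>
      (QuotientGroup.eq_one_iff x).trans mem_subgroupOf
    set V' := (U.subgroupOf H).map π with hV'
    set A' := (A.subgroupOf H).map π with hA'
    set Q' := (Q.subgroupOf H).map π with hQ'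
    haveI hV'n : V'.Normal := hUn'.map π (QuotientGroup.mk'_surjective _)
    haveI : Group.IsSolvable A' := by
      have : Group.IsSolvable (A.subgroupOf H) :=
        Group.isSolvable_of_isSolvable_injective
          (f := (subgroupOfEquivOfLe hAH).toMonoidHom) (subgroupOfEquivOfLe hAH).injective
      exact solvable_of_surjective (π.subgroupMap_surjective (A.subgroupOf H))
    have hmemV : ∀ {z}, z ∈ V' ↔ ∃ u, ∃ hu : u ∈ U, π ⟨u, hUH hu⟩ = z := by
      intro z
      constructor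
      · rintro ⟨y, hy, rfl⟩; exact ⟨y, hy, rfl⟩
      · rintro ⟨u, hu, rfl⟩; exact ⟨_, hu, rfl⟩
    have hVc : ∀ u ∈ V', ∀ v ∈ V', u * v = v * u := by
      intro u hu v hv
      obtain ⟨u, hu', rfl⟩ := hmemV.1 hu
      obtain ⟨v, hv', rfl⟩ := hmemV.1 hv
      rw [← commutatorElement_eq_one_iff_mul_comm, ← map_commutatorElement, hπ1]
      exact hΦC (hcommΦ u hu' v hv')
    have hVr : ∀ v ∈ V', v ^ r = 1 := by
      intro v hv
      obtain ⟨v, hv', rfl⟩ := hmemV.1 hv
      rw [← map_pow, hπ1]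
      exact hΦC (hpowΦ v hv')
    have hV1 : V' ≠ ⊥ := by
      intro h
      apply hCne
      refine le_antisymm hCU fun u hu => ?_
      have : π ⟨u, hUH hu⟩ ∈ V' := hmemV.2 ⟨u, hu, rfl⟩
      rw [h, mem_bot, hπ1] at this
      exact this
    have hinf : A' ⊓ V' = ⊥ := by
      rw [eq_bot_iff_forall]
      rintro z ⟨⟨x, hx, rfl⟩, hz⟩
      obtain ⟨u, hu, e⟩ := hmemV.1 hz
      rw [hπ] at e
      rw [hπ1]
      refine hinfA ⟨hx, ?_⟩
      have := mul_mem hu (hCU e)
      simpa using this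
    have hsup : A' ⊔ V' = ⊤ := by
      rw [hA', hV', ← Subgroup.map_sup, ← subgroupOf_sup hAH hUH, ← hH, subgroupOf_self,
        ← MonoidHom.range_eq_map, MonoidHom.range_eq_top.2 (QuotientGroup.mk'_surjective _)]
    have hirr : ∀ D : Subgroup (H ⧸ C.subgroupOf H), D ≤ V' → (∀ x ∈ A', ∀ d ∈ D, x * d * x⁻¹ ∈ D) →
        D = ⊥ ∨ D = V' := by
      intro D hDV hDA
      set Y := (D.comap π).map H.subtype with hY
      have hYU : Y ≤ U := by
        rintro _ ⟨y, hy, rfl⟩
        obtain ⟨u, hu, e⟩ := hmemV.1 (hDV hy)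
        rw [hπ] at e
        have := mul_mem hu (hCU e)
        simpa using this
      have hAY : A ≤ normalizer (Y : Set G) := by
        intro x hx
        refine mem_normalizer_fintype (S := (Y : Set G)) ?_
        rintro _ ⟨y, hy, rfl⟩
        refine ⟨⟨x, hAH hx⟩ * y * ⟨x, hAH hx⟩⁻¹, ?_, rfl⟩
        rw [SetLike.mem_coe, mem_comap, map_mul, map_mul, map_inv]
        exact hDA _ ⟨_, hx, rfl⟩ _ hy
      by_cases hYe : Y = U
      · right
        refine le_antisymm hDV fun z hz => ?_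
        obtain ⟨u, hu, rfl⟩ := hmemV.1 hz
        obtain ⟨y, hy, e⟩ := (hYe.symm ▸ hu : u ∈ Y)
        have e' : y = ⟨u, hUH hu⟩ := Subtype.ext e
        rw [← e']
        exact hy
      · left
        rw [eq_bot_iff_forall]
        intro z hz
        obtain ⟨y, rfl⟩ := QuotientGroup.mk'_surjective _ z
        have hy : (y : G) ∈ Y := ⟨y, hz, rfl⟩
        rw [hπ1]
        exact ⟨hYU hy, mem_centralizer_iff.2 fun x hx => ih' Y hYU hYe hAY _ hy x hx⟩
    have hQ'p : IsPGroup q Q' := (hQ.of_equiv (subgroupOfEquivOfLe (hQA.trans hAH)).symm).map π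
    have hQ'A : Q' ≤ A' := map_mono fun x hx => hQA hx
    have hA'Q : ∀ x ∈ A', ∀ y ∈ Q', x * y * x⁻¹ ∈ Q' := by
      rintro _ ⟨x, hx, rfl⟩ _ ⟨y, hy, rfl⟩
      exact ⟨x * y * x⁻¹, (mem_normalizer_iff.1 (hAQ hx) (y : G)).1 hy, by rw [map_mul, map_mul, map_inv]⟩
    have hQV : ∃ x ∈ Q', ∃ v ∈ V', x * v ≠ v * x := by
      by_contra hno
      push Not at hno
      refine hCne (hgenU C hCU hAC fun u hu x hx => ?_)
      have h1 := hno (π ⟨x, hAH (hQA hx)⟩) ⟨_, hx, rfl⟩ (π ⟨u, hUH hu⟩) (hmemV.2 ⟨u, hu, rfl⟩)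
      have h2 : ⁅π ⟨u, hUH hu⟩, π ⟨x, hAH (hQA hx)⟩⁆ = 1 :=
        commutatorElement_eq_one_iff_mul_comm.2 h1.symm
      rw [← map_commutatorElement, hπ1] at h2
      exact h2
    set g₀ : H := ⟨g, hAH hgA⟩ with hg₀
    set a₀ : H := ⟨a, hAH haA⟩ with ha₀
    have hgenA' : A' ≤ closure ({π g₀, π a₀ * π g₀ * (π a₀)⁻¹} : Set (H ⧸ C.subgroupOf H)) := by
      rintro _ ⟨x, hx, rfl⟩
      have key : ∀ y ∈ A, ∀ hy : y ∈ H,
          π ⟨y, hy⟩ ∈ closure ({π g₀, π a₀ * π g₀ * (π a₀)⁻¹} : Set (H ⧸ C.subgroupOf H)) := by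
        intro y hyA
        rw [hA] at hyA
        induction hyA using closure_induction with
        | mem y hy =>
          intro _
          rcases hy with rfl | rfl
          · exact subset_closure (Or.inl rfl)
          · rw [← map_inv, ← map_mul, ← map_mul]
            exact subset_closure (Or.inr rfl)
        | one => intro _; exact (map_one π).symm ▸ one_mem _
        | mul y z hy hz ihy ihz =>
          intro hyz
          have e : (⟨y * z, hyz⟩ : H) = ⟨y, hAH (hA ▸ hy)⟩ * ⟨z, hAH (hA ▸ hz)⟩ := rfl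
          rw [e, map_mul]
          exact mul_mem (ihy _) (ihz _)
        | inv y hy ihy =>
          intro hyi
          have e : (⟨y⁻¹, hyi⟩ : H) = (⟨y, hAH (hA ▸ hy)⟩ : H)⁻¹ := rfl
          rw [e, map_inv]
          exact inv_mem (ihy _)
      exact key x hx x.2
    have hord : orderOf (π g₀) = p := by
      refine ((Nat.dvd_prime hp.out).1 (hg ▸ (Subgroup.orderOf_mk g (hAH hgA)) ▸
        orderOf_map_dvd π g₀)).resolve_left fun h1 => ?_
      rw [orderOf_eq_one_iff] at h1
      rw [h1, mul_one, mul_inv_cancel, Set.pair_eq_singleton, closure_singleton_one, le_bot_iff] at hgenA'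
      obtain ⟨x, hx, v, -, hne⟩ := hQV
      apply hne
      have : x ∈ A' := hQ'A hx
      rw [hgenA', mem_bot] at this
      rw [this, one_mul, mul_one]
    obtain ⟨v', hv', hcl⟩ := exists_two_generators A' V' Q' hVc hVr hV1 hinf hsup hirr hQ'p hqr hQ'A hA'Q hQV
      hp5 hord ⟨g₀, hgA, rfl⟩ ⟨a₀, haA, rfl⟩ hgenA'
    obtain ⟨v, hv, rfl⟩ := hmemV.1 hv'
    set B := closure ({g, (v * a) * g * (v * a)⁻¹} : Set G) with hB
    have hBH : B ≤ H := by
      rw [hB, closure_le]
      rintro _ (rfl | rfl)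
      · exact hAH hgA
      · exact mul_mem (mul_mem (mul_mem (hUH hv) (hAH haA)) (hAH hgA)) (inv_mem (mul_mem (hUH hv) (hAH haA)))
    -- `B C = H`
    have hBC : ∀ x ∈ H, ∃ b ∈ B, b⁻¹ * x ∈ C := by
      intro x hx
      have htop : (B.subgroupOf H).map π = ⊤ := by
        rw [eq_top_iff, ← hcl, closure_le]
        rintro _ (rfl | rfl)
        · exact ⟨g₀, subset_closure (Or.inl rfl), rfl⟩
        · refine ⟨⟨v, hUH hv⟩ * a₀ * g₀ * (⟨v, hUH hv⟩ * a₀)⁻¹, subset_closure (Or.inr rfl), ?_⟩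
          rw [map_mul, map_mul, map_inv, map_mul]
      obtain ⟨b, hb, e⟩ := (htop.symm ▸ mem_top (π ⟨x, hx⟩) : π ⟨x, hx⟩ ∈ (B.subgroupOf H).map π)
      exact ⟨b, hb, (hπ b ⟨x, hx⟩).1 e⟩
    -- hence `U ≤ B`
    set D := B ⊓ U with hD
    have hK : ∀ u ∈ U, ∀ x ∈ Q, ⁅u, x⁆ ∈ D ⊔ Φ := by
      intro u hu x hx
      obtain ⟨b, hb, hbC⟩ := hBC u (hUH hu)
      obtain ⟨b', hb', hbC'⟩ := hBC x (hAH (hQA hx))
      set c := b⁻¹ * u with hc
      set c' := b'⁻¹ * x with hc'
      have hbU : b ∈ U := by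
        have := mul_mem hu (inv_mem (hCU hbC))
        simpa [hc] using this
      have hbD : b ∈ D := ⟨hb, hbU⟩
      have hcx : x * c = c * x := mem_centralizer_iff.1 hbC.2 x hx
      have e1 : ⁅u, x⁆ = ⁅b, x⁆ := by
        rw [show u = b * c by rw [hc]; group]
        simp only [commutatorElement_def]
        calc b * c * x * (b * c)⁻¹ * x⁻¹ = b * (c * x) * c⁻¹ * b⁻¹ * x⁻¹ := by group
          _ = b * (x * c) * c⁻¹ * b⁻¹ * x⁻¹ := by rw [hcx]
          _ = b * x * b⁻¹ * x⁻¹ := by group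
      rw [e1, show x = b' * c' by rw [hc']; group,
        show ⁅b, b' * c'⁆ = ⁅b, b'⁆ * (b' * ⁅b, c'⁆ * b'⁻¹) by simp only [commutatorElement_def]; group]
      refine mul_mem (mem_sup_left ⟨?_, ?_⟩) (mem_sup_right ?_)
      · exact B.mul_mem (B.mul_mem (B.mul_mem hb hb') (B.inv_mem hb)) (B.inv_mem hb')
      · have := mul_mem hbU ((mem_normalizer_iff.1 (hHU (hBH hb')) b⁻¹).1 (inv_mem hbU))
        simpa [commutatorElement_def, mul_assoc] using this
      · have hN : H ≤ normalizer (Φ : Set G) :=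
          hHU.trans (OddLocal.normalizer_le_normalizer_map_characteristic (frattini U))
        exact (mem_normalizer_iff.1 (hN (hBH hb')) _).1 (hcommΦ b hbU c' (hCU hbC'))
    have hUB : U ≤ B := by
      set W := ⁅U, Q⁆ with hW
      have hWle : W ≤ D ⊔ Φ := commutator_le.2 hK
      have hWU : W ≤ U := commutator_le.2 fun u hu x hx => by
        have := mul_mem hu ((mem_normalizer_iff.1 (hQU hx) u⁻¹).1 (inv_mem hu))
        simpa [commutatorElement_def, mul_assoc] using this
      have hAW : A ≤ normalizer (W : Set G) := by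
        intro x hx
        refine mem_normalizer_fintype (S := (W : Set G)) fun y hy => ?_
        have : W.map (MulAut.conj x).toMonoidHom ≤ W := by
          rw [hW, Subgroup.map_commutator]
          refine commutator_mono ?_ ?_
          · rintro _ ⟨z, hz, rfl⟩; exact (mem_normalizer_iff.1 (hAU hx) z).1 hz
          · rintro _ ⟨z, hz, rfl⟩; exact (mem_normalizer_iff.1 (hAQ hx) z).1 hz
        exact this ⟨y, hy, rfl⟩
      have hWe : W = U := hgenU W hWU hAW fun u hu x hx => commutator_mem_commutator hu hx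
      have hfull : (D.subgroupOf U) ⊔ frattini U = ⊤ := by
        apply map_injective U.subtype_injective
        rw [Subgroup.map_sup, subgroupOf_map_subtype, ← MonoidHom.range_eq_map, range_subtype,
          inf_eq_left.2 (inf_le_right : D ≤ U)]
        exact le_antisymm (sup_le inf_le_right hΦU) (hWe.symm.le.trans hWle)
      have := CfsgLib.PGroup.eq_top_of_sup_frattini hfull
      exact fun u hu => (show (⟨u, hu⟩ : U) ∈ D.subgroupOf U by rw [this]; exact mem_top _).1
    have hBeq : B = H := by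
      refine le_antisymm hBH fun x hx => ?_
      obtain ⟨b, hb, hbC⟩ := hBC x hx
      have := mul_mem hb (hUB (hCU hbC))
      simpa using this
    have hfin : B = A := hmax B (hBeq ▸ hAH) (hBeq ▸ hHs)
      ⟨v * a, hBeq ▸ mul_mem (hUH hv) (hAH haA), rfl⟩
    exact hCne (le_antisymm hCU fun u hu => hinfA ⟨hfin ▸ hUB hu, hu⟩)

/-- The statement in subgroup form. -/
theorem nilpotent_fittingOf_sup.{u} {G : Type u} [Group G] [Finite G] (A : Subgroup G) [Group.IsSolvable A]
    {g a : G} {p : ℕ} [Fact p.Prime] (hp5 : 5 ≤ p) (hg : orderOf g = p) (haA : a ∈ A)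
    (hA : A = closure ({g, a * g * a⁻¹} : Set G))
    (hmax : ∀ B : Subgroup G, A ≤ B → Group.IsSolvable B →
      (∃ b ∈ B, B = closure ({g, b * g * b⁻¹} : Set G)) → B = A)
    (V : Subgroup G) (hV : Group.IsNilpotent V) (hAV : A ≤ normalizer (V : Set G)) :
    Group.IsNilpotent ↥(Cfsg.fittingOf A ⊔ V) := by
  classical
  set F := Cfsg.fittingOf A with hF
  have hFn : Group.IsNilpotent F := FitLen.isNilpotent_fittingOf A
  have hFA : F ≤ A := FitLen.fittingOf_le A
  have hAF : A ≤ normalizer (F : Set G) := le_normalizer.trans (FitLen.normalizer_le_normalizer_fittingOf A)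
  let S : ℕ → Subgroup G := fun r => Cfsg.pCoreOf r F ⊔ Cfsg.pCoreOf r V
  have hpg : ∀ (r : ℕ) (X : Subgroup G), IsPGroup r (Cfsg.pCoreOf r X) := fun r X =>
    (Cores.isPGroup_pCore r).map _
  have hAp : ∀ r, A ≤ normalizer (Cfsg.pCoreOf r F : Set G) ∧ A ≤ normalizer (Cfsg.pCoreOf r V : Set G) :=
    fun r => ⟨hAF.trans (Signalizer.normalizer_le_normalizer_pCoreOf r F),
      hAV.trans (Signalizer.normalizer_le_normalizer_pCoreOf r V)⟩
  have hle : ∀ (r : ℕ) (X : Subgroup G), Cfsg.pCoreOf r X ≤ X := fun r X => map_subtype_le _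
  have hself : ∀ (X : Subgroup G) (q r : ℕ) [Fact q.Prime] [Fact r.Prime], q ≠ r →
      ∀ x ∈ Cfsg.pCoreOf q X, ∀ y ∈ Cfsg.pCoreOf r X, x * y = y * x := by
    rintro X q r _ _ hqr _ ⟨x, hx, rfl⟩ _ ⟨y, hy, rfl⟩
    exact congrArg X.subtype (Cores.commute_pCore_of_ne hqr hx hy)
  have hcom : ∀ (q r : ℕ) [Fact q.Prime] [Fact r.Prime], q ≠ r → S q ≤ centralizer (S r : Set G) := by
    intro q r _ _ hqr
    have hFV : ∀ (q r : ℕ) [Fact q.Prime] [Fact r.Prime], q ≠ r →
        ∀ x ∈ Cfsg.pCoreOf q F, ∀ y ∈ Cfsg.pCoreOf r V, x * y = y * x := by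
      intro q r _ _ hqr x hx y hy
      exact centralizes A hp5 hg haA hA hmax hqr ((hle q F).trans hFA) (hpg q F) (hAp q).1 _ _ le_rfl
        (hpg r V) (hAp r).2 y hy x hx
    refine sup_le ?_ ?_ <;> rw [le_centralizer_iff] <;> refine sup_le ?_ ?_ <;> intro y hy <;>
      refine mem_centralizer_iff.2 fun x hx => ?_
    · exact hself F q r hqr x hx y hy
    · exact hFV q r hqr x hx y hy
    · exact (hFV r q hqr.symm y hy x hx).symm
    · exact hself V q r hqr x hx y hy
  have hnil : ∀ r, r.Prime → Group.IsNilpotent ↥(S r) := by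
    intro r hr
    haveI := Fact.mk hr
    have hn : Cfsg.pCoreOf r F ≤ normalizer (Cfsg.pCoreOf r V : Set G) := ((hle r F).trans hFA).trans (hAp r).2
    exact ((hpg r F).to_sup_of_normal_right' (hpg r V) hn).isNilpotent
  have hfin : ∀ s : Finset ℕ, (∀ r ∈ s, r.Prime) → Group.IsNilpotent ↥(⨆ r ∈ s, S r) := by
    intro s
    induction s using Finset.induction_on with
    | empty =>
      intro _
      rw [show (⨆ r ∈ (∅ : Finset ℕ), S r) = ⊥ by simp]
      infer_instance
    | insert q s hqs ih =>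
      intro hs
      rw [Finset.iSup_insert]
      have hq := hs q (Finset.mem_insert_self q s)
      haveI := Fact.mk hq
      refine CN.isNilpotent_sup_of_commute (hnil q hq) (ih fun r hr => hs r (Finset.mem_insert_of_mem hr)) ?_
      intro x hx y hy
      have hsle : (⨆ r ∈ s, S r) ≤ centralizer (S q : Set G) := iSup₂_le fun r hr => by
        haveI := Fact.mk (hs r (Finset.mem_insert_of_mem hr))
        exact hcom r q fun e => hqs (e ▸ hr)
      exact mem_centralizer_iff.1 (hsle hy) x hx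
  set P := (Nat.card G).primeFactors with hP
  haveI := hfin P fun r hr => Nat.prime_of_mem_primeFactors hr
  refine OddLocal.isNilpotent_of_le inferInstance (show F ⊔ V ≤ ⨆ r ∈ P, S r from ?_)
  have hX : ∀ X : Subgroup G, Group.IsNilpotent X → (∀ r, Cfsg.pCoreOf r X ≤ S r) → X ≤ ⨆ r ∈ P, S r := by
    intro X hXn hXS x hx
    refine CN.mem_of_primeParts fun r k hr hk => ?_
    haveI := Fact.mk hr
    obtain ⟨i, hi⟩ := hk
    by_cases hi0 : i = 0
    · rw [hi0, pow_zero, orderOf_eq_one_iff] at hi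
      rw [hi]; exact one_mem _
    have hrP : r ∈ P := Nat.mem_primeFactors.2 ⟨hr,
      (hi ▸ dvd_pow_self r hi0 : r ∣ orderOf (x ^ k)).trans (orderOf_dvd_natCard _), Nat.card_pos.ne'⟩
    exact le_iSup₂ (f := fun r _ => S r) r hrP (hXS r (FitLen.mem_pCoreOf_of_nilpotent hXn (pow_mem hx k) ⟨i, hi⟩))
  exact sup_le (hX F hFn fun r => le_sup_left) (hX V hV fun r => le_sup_right)

end CfsgLib.FGS.FixedHalf
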